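/-
Tools for the surviving orders in `(3640, 6232]`: the possible local data at a prime dividing the
order once, Sylow subgroups inside a subgroup, counting, involutions.
-/
import Mathlib
import Cfsg.Agent.Lib.SmallGroups.Below1092.Kill
import Cfsg.Agent.Lib.SmallGroups.ElemCentral
import Cfsg.Agent.Lib.SmallGroups.LargeCentralizer
import Cfsg.Agent.Lib.SmallGroups.Order5040.Fixed
import Cfsg.Agent.Lib.Involution.ThompsonTransfer
import Cfsg.Agent.Lib.Core.Nilpotent
import Cfsg.Agent.S1010
import Cfsg.Agent.S0992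

set_option autoImplicit false
set_option linter.style.haveILetI false

namespace Cfsg.Agent.Lib.SmallGroups.Below6232

open Subgroup MulAction
open scoped Nat
open Cfsg.Agent.Lib.SmallGroups.Below1092 (okNum okNum_of_sylow sylow_form)

universe u

variable {G : Type u} [Group G] [Finite G]

/-- The possible `(n_p, e, |C(P)|)` in a simple group of order `n` with `p` exactly dividing `n`. -/
def choices (n p : ℕ) : List (ℕ × ℕ × ℕ) :=
  (List.range (n / p / p + 1)).flatMap fun i =>
    if (n / p) % (p * i + 1) == 0 && okNum n p 1 (p * i + 1) && !(p == 5 && i == 4) then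
      (List.range p).filterMap fun e =>
        if decide (2 ≤ e) && (p - 1) % e == 0 && (n / p / (p * i + 1)) % e == 0 &&
            (decide (30 ≤ i) || i ! % (n / p / (p * i + 1) / e) == 0) then
          some (p * i + 1, e, p * (n / p / (p * i + 1) / e)) else none
    else []

theorem exists_choice [IsSimpleGroup G] (hG : ¬ IsMulCommutative G) {n p m : ℕ} [hp : Fact p.Prime]
    (hn : Nat.card G = n) (hm : n = p * m) (hpm : ¬ p ∣ m) (P : Sylow p G) :
    Nat.card (P : Subgroup G) = p ∧ ∃ t ∈ choices n p,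
      Nat.card (Sylow p G) = t.1 ∧
      Nat.card (centralizer ((P : Subgroup G) : Set G)) = t.2.2 ∧
      Nat.card (normalizer ((P : Subgroup G) : Set G)) = t.2.1 * t.2.2 := by
  have h : Nat.card G = p ^ 1 * m := by rw [hn, hm, pow_one]
  have hP : Nat.card (P : Subgroup G) = p := (card_sylow_eq P h hpm).trans (pow_one p)
  refine ⟨hP, ?_⟩
  have hd := card_sylow_mem hG h hpm one_ne_zero
  rw [Finset.mem_filter, Nat.mem_divisors] at hd
  obtain ⟨i, hi, hdi⟩ := sylow_form hp.out.two_le hd.1.1 hd.1.2 hd.2.1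
  have hok := okNum_of_sylow hG h hpm one_ne_zero
  rw [hn, hdi] at hok
  obtain ⟨e, he, he1, hC, hN⟩ := exists_card_normalizer_eq_of_simple hG P hP
  obtain ⟨c, hc⟩ := hC
  have hmul := card_normalizer_sylow_mul P
  rw [hN, hc, hdi, hn, hm] at hmul
  have hm' : m = (p * i + 1) * (e * c) := by
    refine Nat.eq_of_mul_eq_mul_left hp.out.pos ?_
    rw [← hmul]; ring
  have hnp : n / p = m := by rw [hm, Nat.mul_div_cancel_left _ hp.out.pos]
  have hec : n / p / (p * i + 1) = e * c := by
    rw [hnp, hm', Nat.mul_div_cancel_left _ (Nat.succ_pos _)]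
  have he0 : 0 < e := by
    rcases Nat.eq_zero_or_pos e with rfl | h0
    · rw [Nat.zero_dvd] at he
      have := hp.out.two_le
      omega
    · exact h0
  refine ⟨(p * i + 1, e, p * c), ?_, hdi, hc, by rw [hN, hc]⟩
  rw [choices, List.mem_flatMap]
  refine ⟨i, List.mem_range.mpr (by rw [hnp]; exact hi), ?_⟩
  rw [if_pos ?_, List.mem_filterMap]
  · refine ⟨e, List.mem_range.mpr (lt_of_le_of_lt (Nat.le_of_dvd
      (by have := hp.out.two_le; omega) he) (by have := hp.out.two_le; omega)), ?_⟩
    rw [hec, Nat.mul_div_cancel_left _ he0, if_pos]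
    simp only [Bool.and_eq_true, decide_eq_true_eq, beq_iff_eq, Bool.or_eq_true]
    refine ⟨⟨⟨by omega, Nat.mod_eq_zero_of_dvd he⟩, Nat.mul_mod_right e c⟩, Or.inr ?_⟩
    have h1 := card_centralizer_dvd_of_card_sylow hG (k := i) P hP (by rw [hdi]; ring)
    rw [hc] at h1
    exact Nat.mod_eq_zero_of_dvd (Nat.dvd_of_mul_dvd_mul_left hp.out.pos h1)
  · simp only [Bool.and_eq_true, beq_iff_eq, Bool.not_eq_true', Bool.and_eq_false_iff,
      beq_eq_false_iff_ne]
    refine ⟨⟨Nat.mod_eq_zero_of_dvd (by rw [hnp, ← hdi]; exact hd.1.1), hok⟩, ?_⟩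
    by_contra hcon
    push Not at hcon
    obtain ⟨rfl, rfl⟩ := hcon
    exact Cfsg.Agent.S1010.result hdi

/-- Divisibility of centralizer orders is symmetric between two Sylow subgroups of prime order. -/
theorem dvd_centralizer_symm {p q : ℕ} [Fact p.Prime] [Fact q.Prime] (P : Sylow p G)
    (hP : Nat.card (P : Subgroup G) = p) (Q : Sylow q G) (hQ : Nat.card (Q : Subgroup G) = q)
    (h : q ∣ Nat.card (centralizer ((P : Subgroup G) : Set G))) :
    p ∣ Nat.card (centralizer ((Q : Subgroup G) : Set G)) := by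
  obtain ⟨⟨y, hy⟩, hyo⟩ := exists_prime_orderOf_dvd_card' q h
  rw [Subgroup.orderOf_mk] at hyo
  rw [← card_centralizer_of_orderOf Q hQ hyo]
  have hle : (P : Subgroup G) ≤ centralizer ({y} : Set G) := fun z hz =>
    mem_centralizer_singleton_iff.mpr (mem_centralizer_iff.mp hy z hz)
  have h1 := card_dvd_of_le hle
  rwa [hP] at h1

/-- A Sylow subgroup contained in another one's normalizer coincides with it. -/
theorem eq_of_le_normalizer {p : ℕ} [Fact p.Prime] (P R : Sylow p G)
    (h : (R : Subgroup G) ≤ normalizer ((P : Subgroup G) : Set G)) : R = P := by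
  have h1 := R.2.inf_normalizer_sylow P
  rw [inf_eq_left.mpr (show (R : Subgroup G) ≤ normalizer (P : Set G) from h), eq_comm,
    inf_eq_left] at h1
  exact Sylow.ext ((R.3 P.2 h1).symm)

/-- The Sylow data of a subgroup containing a Sylow subgroup. -/
theorem sylow_count_of_le {p : ℕ} [Fact p.Prime] (P : Sylow p G) {H : Subgroup G}
    (hPH : (P : Subgroup G) ≤ H) :
    Nat.card (Sylow p H) % p = 1 ∧
      Nat.card H = Nat.card (Sylow p H) *
        Nat.card (normalizer ((P : Subgroup G) : Set G) ⊓ H : Subgroup G) ∧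
      Nat.card (normalizer ((P : Subgroup G) : Set G) ⊓ H : Subgroup G) ∣
        Nat.card (normalizer ((P : Subgroup G) : Set G)) ∧
      Nat.card (P : Subgroup G) ∣
        Nat.card (normalizer ((P : Subgroup G) : Set G) ⊓ H : Subgroup G) ∧
      (Nat.card (Sylow p H) = 1 → H ≤ normalizer ((P : Subgroup G) : Set G)) := by
  set N := normalizer ((P : Subgroup G) : Set G) with hN
  have hnorm : N.subgroupOf H = normalizer ((P.subtype hPH : Subgroup H) : Set H) := by
    rw [hN, Sylow.coe_subtype]
    exact subgroupOf_normalizer_eq hPH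
  have hmul := card_normalizer_sylow_mul (P.subtype hPH)
  rw [← hnorm, ← inf_subgroupOf_right,
    Nat.card_congr (subgroupOfEquivOfLe (inf_le_right : N ⊓ H ≤ H)).toEquiv] at hmul
  refine ⟨?_, by rw [← hmul, mul_comm], card_dvd_of_le inf_le_left,
    card_dvd_of_le (le_inf le_normalizer hPH), fun h1 => ?_⟩
  · have := card_sylow_modEq_one p H
    rwa [Nat.ModEq, Nat.mod_eq_of_lt (Fact.out : p.Prime).one_lt] at this
  · rw [h1, mul_one] at hmul
    exact inf_eq_right.mp (Subgroup.eq_of_le_of_card_ge inf_le_right hmul.ge)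

/-- A subgroup of order divisible by the full `p`-part contains a Sylow subgroup. -/
theorem exists_sylow_le {p k m : ℕ} [hp : Fact p.Prime] (h : Nat.card G = p ^ k * m) (hm : ¬ p ∣ m)
    {H : Subgroup G} (hd : p ^ k ∣ Nat.card H) : ∃ P : Sylow p G, (P : Subgroup G) ≤ H := by
  obtain ⟨K, hK⟩ := Sylow.exists_subgroup_card_pow_prime p hd
  have hc : Nat.card (K.map H.subtype) = p ^ (Nat.card G).factorization p := by
    rw [card_map_of_injective H.subtype_injective, hK, h]
    congr 1
    rw [Nat.factorization_mul (pow_ne_zero _ hp.out.ne_zero) (by rintro rfl; simp at hm)]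
    simp [hp.out.factorization_self, Nat.factorization_eq_zero_of_not_dvd hm]
  exact ⟨Sylow.ofCard (K.map H.subtype) hc, map_subtype_le K⟩

/-- Elements of three different prime orders, each the order of a Sylow subgroup. -/
theorem counting {p q r : ℕ} [Fact p.Prime] [Fact q.Prime] [Fact r.Prime] (hpq : p ≠ q)
    (hpr : p ≠ r) (hqr : q ≠ r) (P : Sylow p G) (hP : Nat.card (P : Subgroup G) = p)
    (Q : Sylow q G) (hQ : Nat.card (Q : Subgroup G) = q) (R : Sylow r G)
    (hR : Nat.card (R : Subgroup G) = r) :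
    Nat.card (Sylow p G) * (p - 1) + Nat.card (Sylow q G) * (q - 1) +
      Nat.card (Sylow r G) * (r - 1) ≤ Nat.card G := by
  rw [← card_orderOf_eq_prime P hP, ← card_orderOf_eq_prime Q hQ, ← card_orderOf_eq_prime R hR]
  refine le_trans (Nat.add_le_add_right (card_add_card_le (p := fun g => orderOf g = p)
    (q := fun g => orderOf g = q) (fun g a b => hpq (a.symm.trans b))
    (r := fun g => orderOf g = p ∨ orderOf g = q) (fun _ => Or.inl) (fun _ => Or.inr)) _) ?_
  refine le_trans (card_add_card_le (p := fun g => orderOf g = p ∨ orderOf g = q)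
    (q := fun g => orderOf g = r)
    (fun g a b => a.elim (fun a => hpr (a.symm.trans b)) fun a => hqr (a.symm.trans b))
    (r := fun _ => True) (fun _ _ => trivial) (fun _ _ => trivial)) ?_
  exact (Nat.card_congr (Equiv.subtypeUnivEquiv fun _ => trivial)).le

omit [Finite G] in
theorem mem_fixedBy_of_zpowers {X : Type*} [MulAction G X] {w : G} {a : X} :
    a ∈ fixedPoints (zpowers w) X ↔ a ∈ fixedBy X w := by
  constructor
  · exact fun h => h ⟨w, mem_zpowers w⟩
  · intro h c
    have : zpowers w ≤ stabilizer G a := zpowers_le.mpr h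
    exact this c.2

omit [Finite G] in
/-- The fixed points of an element of prime order, modulo that prime. -/
theorem card_fixedBy_modEq {X : Type*} [MulAction G X] [Finite X] {q : ℕ} [Fact q.Prime] {w : G}
    (hw : orderOf w = q) : Nat.card X ≡ Nat.card (fixedBy X w) [MOD q] := by
  have h := (IsPGroup.of_card (p := q) (n := 1) (G := zpowers w)
    (by rw [Nat.card_zpowers, hw, pow_one])).card_modEq_card_fixedPoints X
  rwa [Nat.card_congr (Equiv.subtypeEquivRight fun a => mem_fixedBy_of_zpowers)] at h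

/-- When `|N(P)| = p * 2 ^ j` and `|C(P)|` is even some involution of `C(P)` centralizes `N(P)`. -/
theorem exists_involution_central {p j : ℕ} [hp : Fact p.Prime] (P : Sylow p G)
    (hP : Nat.card (P : Subgroup G) = p) (hp2 : p ≠ 2)
    (hN : Nat.card (normalizer ((P : Subgroup G) : Set G)) = p * 2 ^ j)
    (h2 : 2 ∣ Nat.card (centralizer ((P : Subgroup G) : Set G))) :
    ∃ u : G, orderOf u = 2 ∧ u ∈ centralizer ((P : Subgroup G) : Set G) ∧
      normalizer ((P : Subgroup G) : Set G) ≤ centralizer ({u} : Set G) := by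
  classical
  haveI : Fact (Nat.Prime 2) := ⟨Nat.prime_two⟩
  set N := normalizer ((P : Subgroup G) : Set G) with hNdef
  set C := centralizer ((P : Subgroup G) : Set G) with hCdef
  have hp2' : ¬ (2 : ℕ) ∣ p := fun h => hp2 ((Nat.prime_dvd_prime_iff_eq Nat.prime_two hp.out).mp h).symm
  obtain ⟨v, hv⟩ := exists_prime_orderOf_dvd_card' (G := C) 2 h2
  obtain ⟨T, hT⟩ := (IsPGroup.of_card (p := 2) (n := 1)
    (G := zpowers (⟨(v : G), centralizer_le_normalizer' _ v.2⟩ : N))
    (by rw [Nat.card_zpowers, pow_one, Subgroup.orderOf_mk, Subgroup.orderOf_coe, hv])).exists_le_sylow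
  have hTc : Nat.card (T : Subgroup N) = 2 ^ j :=
    card_sylow_eq T (by rw [hN, mul_comm]) hp2'
  haveI : Group.IsNilpotent (T : Subgroup N) := T.2.isNilpotent
  let K : Subgroup (T : Subgroup N) := (C.subgroupOf N).subgroupOf (T : Subgroup N)
  haveI hCn : (C.subgroupOf N).Normal := by
    rw [hCdef, ← normalizerMonoidHom_ker]
    infer_instance
  haveI : K.Normal := Subgroup.Normal.subgroupOf hCn _
  have hK : K ≠ ⊥ := fun hb => by
    have hmem : (⟨⟨(v : G), centralizer_le_normalizer' _ v.2⟩, hT (mem_zpowers _)⟩ : (T : Subgroup N))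
        ∈ K := mem_subgroupOf.mpr (mem_subgroupOf.mpr v.2)
    rw [hb, Subgroup.mem_bot] at hmem
    have hv1 : (v : G) = 1 := congrArg (fun z : (T : Subgroup N) => ((z : N) : G)) hmem
    rw [← Subgroup.orderOf_coe, hv1, orderOf_one] at hv
    norm_num at hv
  have hmeet := Nilp.inf_center_ne_bot_of_normal (G := (T : Subgroup N)) (N := K) hK
  obtain ⟨⟨z, hz⟩, hz2⟩ : ∃ z : (K ⊓ Subgroup.center (T : Subgroup N) : Subgroup (T : Subgroup N)),
      orderOf z = 2 := by
    refine exists_prime_orderOf_dvd_card' 2 ?_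
    obtain ⟨n, hn⟩ := IsPGroup.iff_card.mp (T.2.to_subgroup (K ⊓ Subgroup.center (T : Subgroup N)))
    rcases Nat.eq_zero_or_pos n with rfl | hn0
    · exact absurd (Subgroup.card_eq_one.mp (by simpa using hn)) hmeet
    · rw [hn]; exact dvd_pow_self 2 hn0.ne'
  rw [Subgroup.orderOf_mk, ← Subgroup.orderOf_coe, ← Subgroup.orderOf_coe] at hz2
  set u : G := ((z : N) : G) with hudef
  have huC : u ∈ C := mem_subgroupOf.mp (mem_subgroupOf.mp hz.1)
  refine ⟨u, hz2, huC, ?_⟩
  set T' := (T : Subgroup N).map N.subtype with hT'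
  have hTu : T' ≤ centralizer ({u} : Set G) := by
    rintro _ ⟨t, ht, rfl⟩
    exact mem_centralizer_singleton_iff.mpr
      (congrArg (fun y : (T : Subgroup N) => ((y : N) : G)) (Subgroup.mem_center_iff.mp hz.2 ⟨t, ht⟩))
  have hPu : (P : Subgroup G) ≤ centralizer ({u} : Set G) := fun y hy =>
    mem_centralizer_singleton_iff.mpr (mem_centralizer_iff.mp huC y hy)
  have h40 : N = N ⊓ centralizer ({u} : Set G) := by
    refine (Subgroup.eq_of_le_of_card_ge inf_le_left (Nat.le_of_dvd Nat.card_pos ?_)).symm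
    rw [hN]
    refine Nat.Coprime.mul_dvd_of_dvd_of_dvd
      ((hp.out.coprime_iff_not_dvd.mpr fun h => hp2
        ((Nat.prime_dvd_prime_iff_eq hp.out Nat.prime_two).mp h)).pow_right j) ?_ ?_
    · have h1 := card_dvd_of_le
        (le_inf le_normalizer hPu : (P : Subgroup G) ≤ N ⊓ centralizer ({u} : Set G))
      rwa [hP] at h1
    · have h1 := card_dvd_of_le (le_inf (map_subtype_le _) hTu : T' ≤ N ⊓ centralizer ({u} : Set G))
      rwa [hT', card_map_of_injective N.subtype_injective, hTc] at h1
  rw [h40]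
  exact inf_le_right

/-- In a group of order `2 * m`, `m` odd, every subgroup of odd order lies in one subgroup of
order `m`. -/
theorem exists_half {H : Subgroup G} {m : ℕ} (hH : Nat.card H = 2 * m) (hm : Odd m) :
    ∃ K : Subgroup G, Nat.card K = m ∧ ∀ A ≤ H, Odd (Nat.card A) → A ≤ K := by
  haveI : Fact (Nat.Prime 2) := ⟨Nat.prime_two⟩
  obtain ⟨T⟩ := (inferInstance : Nonempty (Sylow 2 H))
  have hT : Nat.card (T : Subgroup H) = 2 := (card_sylow_eq T (k := 1) (m := m)
    (by rw [hH, pow_one]) (Nat.two_dvd_ne_zero.mpr (Nat.odd_iff.mp hm))).trans (pow_one 2)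
  obtain ⟨K, hKn, hKi⟩ := Involution.exists_index_two_of_isCyclic_sylow
    (G := H) (by rw [hH]; exact even_two_mul m) T (isCyclic_of_prime_card hT)
  refine ⟨K.map H.subtype, ?_, fun A hAH hA a ha => ⟨⟨a, hAH ha⟩, ?_, rfl⟩⟩
  · rw [card_map_of_injective H.subtype_injective]
    have h1 := K.card_mul_index
    rw [hKi, hH] at h1
    omega
  · have hpow : (⟨a, hAH ha⟩ : H) ^ Nat.card A = 1 := Subtype.ext (by
      show a ^ Nat.card A = 1
      exact congrArg Subtype.val (pow_card_eq_one' (x := (⟨a, ha⟩ : A))))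
    obtain ⟨j, hj⟩ := hA
    have h2 : (⟨a, hAH ha⟩ : H) * (⟨a, hAH ha⟩ : H) ^ (2 * j) = 1 := by
      rw [← pow_succ', ← hj, hpow]
    have h3 : (⟨a, hAH ha⟩ : H) ^ (2 * j) ∈ K := by
      rw [pow_mul]; exact K.pow_mem (Subgroup.sq_mem_of_index_two hKi _) j
    rw [eq_inv_of_mul_eq_one_left h2]
    exact K.inv_mem h3

variable [IsSimpleGroup G]

/-- All involutions are conjugate when 8 does not divide the order. -/
theorem isConj_of_not_eight (hG : ¬ IsMulCommutative G) (h2 : Even (Nat.card G))
    (h8 : ¬ 8 ∣ Nat.card G) {u v : G} (hu : orderOf u = 2) (hv : orderOf v = 2) : IsConj u v := by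
  classical
  haveI : Fact (Nat.Prime 2) := ⟨Nat.prime_two⟩
  obtain ⟨T⟩ := (inferInstance : Nonempty (Sylow 2 G))
  obtain ⟨hT, hrel⟩ := Cfsg.Agent.S0992.result hG h2 h8 T
  haveI := hT
  set N := normalizer ((T : Subgroup G) : Set G) with hN
  set C := centralizer ((T : Subgroup G) : Set G) with hC
  obtain ⟨g, hgN, hgC⟩ : ∃ g ∈ N, g ∉ C := by
    by_contra hh
    push Not at hh
    rw [relIndex, subgroupOf_eq_top.mpr hh, index_top] at hrel
    norm_num at hrel
  haveI hCn : (C.subgroupOf N).Normal := by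
    rw [hC, ← normalizerMonoidHom_ker]
    infer_instance
  have hg3 : g ^ 3 ∈ C := by
    have h1 := (C.subgroupOf N).pow_index_mem (⟨g, hgN⟩ : N)
    rw [show (C.subgroupOf N).index = 3 from hrel] at h1
    exact mem_subgroupOf.mp h1
  have hTc : Nat.card (T : Subgroup G) = 4 := IsKleinFour.card_four
  have hsq : ∀ a ∈ (T : Subgroup G), a * a = 1 := fun a ha =>
    congrArg Subtype.val (IsKleinFour.mul_self (⟨a, ha⟩ : (T : Subgroup G)))
  have hgT : ∀ a ∈ (T : Subgroup G), g * a * g⁻¹ ∈ (T : Subgroup G) := fun a ha =>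
    (mem_normalizer_iff.mp hgN a).mp ha
  -- `g` moves every involution of `T`
  have hmoves : ∀ a ∈ (T : Subgroup G), a ≠ 1 → g * a * g⁻¹ ≠ a := by
    intro a ha ha1 hfix
    apply hgC
    have hsqC : g * g ∈ C := by
      refine mem_centralizer_iff.mpr fun b hb => ?_
      have hb' := hgT b hb
      have hb2 := hgT _ hb'
      have key : g * (g * b * g⁻¹) * g⁻¹ = b := by
        by_contra hne
        have hinj : ∀ s t : G, g * s * g⁻¹ = g * t * g⁻¹ → s = t := fun s t hst =>
          mul_left_cancel (mul_right_cancel hst)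
        by_cases hb1 : b = 1
        · subst hb1; exact hne (by group)
        have hbb : g * b * g⁻¹ ≠ b := fun he => hne (by rw [he, he])
        have hba : b ≠ a := fun he => hbb (by rw [he, hfix])
        -- five distinct elements in a group of order four
        haveI := Fintype.ofFinite (T : Subgroup G)
        have hcard : ({1, ⟨a, ha⟩, ⟨b, hb⟩, ⟨_, hb'⟩, ⟨_, hb2⟩} : Finset (T : Subgroup G)).card = 5 := by
          rw [Finset.card_insert_of_notMem, Finset.card_insert_of_notMem, Finset.card_insert_of_notMem,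
            Finset.card_pair]
          · intro he
            exact hbb (hinj _ _ (congrArg Subtype.val he)).symm
          · simp only [Finset.mem_insert, Finset.mem_singleton, Subtype.mk.injEq, not_or]
            exact ⟨fun he => hbb he.symm, fun he => hne he.symm⟩
          · simp only [Finset.mem_insert, Finset.mem_singleton, Subtype.mk.injEq, not_or]
            refine ⟨fun he => hba he.symm, fun he => hba (hinj b a ?_), fun he => hba (hinj b a ?_)⟩
            · rw [hfix, ← he]
            · refine hinj _ _ ?_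
              rw [hfix, hfix, ← he]
          · simp only [Finset.mem_insert, Finset.mem_singleton, Subtype.ext_iff, not_or]
            refine ⟨fun he => ha1 he.symm, fun he => hb1 he.symm, fun he => hb1 (hinj b 1 ?_),
              fun he => hb1 (hinj b 1 (hinj _ _ ?_))⟩
            · simp only [Subgroup.coe_one] at he
              rw [← he]; group
            · simp only [Subgroup.coe_one] at he
              rw [← he]; group
        have h5 := Finset.card_le_univ
          ({1, ⟨a, ha⟩, ⟨b, hb⟩, ⟨_, hb'⟩, ⟨_, hb2⟩} : Finset (T : Subgroup G))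
        rw [hcard, ← Nat.card_eq_fintype_card, hTc] at h5
        omega
      calc b * (g * g) = g * (g * b * g⁻¹) * g⁻¹ * (g * g) := by rw [key]
        _ = g * g * b := by group
    have h1 : g ^ 3 * (g * g)⁻¹ ∈ C := C.mul_mem hg3 (C.inv_mem hsqC)
    rwa [show g ^ 3 * (g * g)⁻¹ = g by group] at h1
  -- every involution is conjugate into a chosen one of `T`
  have into : ∀ s : G, orderOf s = 2 → ∃ a ∈ (T : Subgroup G), a ≠ 1 ∧ IsConj s a := by
    intro s hs
    obtain ⟨Q, hQ⟩ := (IsPGroup.of_card (p := 2) (n := 1) (G := zpowers s)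
      (by rw [Nat.card_zpowers, hs, pow_one])).exists_le_sylow
    obtain ⟨x, hx⟩ := MulAction.exists_smul_eq G Q T
    refine ⟨x * s * x⁻¹, ?_, fun hh => ?_, isConj_iff.mpr ⟨x, rfl⟩⟩
    · rw [← hx, Sylow.coe_subgroup_smul]
      exact ⟨s, hQ (mem_zpowers s), rfl⟩
    · rw [conj_eq_one_iff] at hh
      rw [hh, orderOf_one] at hs
      norm_num at hs
  obtain ⟨a, ha, ha1, hau⟩ := into u hu
  obtain ⟨b, hb, hb1, hbv⟩ := into v hv
  suffices hab : IsConj a b from hau.trans (hab.trans hbv.symm)
  have hinj : ∀ s t : G, g * s * g⁻¹ = g * t * g⁻¹ → s = t := fun s t hst =>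
    mul_left_cancel (mul_right_cancel hst)
  by_contra hne
  have ha' := hgT a ha
  have ha'' := hgT _ ha'
  have ha'1 : g * a * g⁻¹ ≠ 1 := fun hh => ha1 (conj_eq_one_iff.mp hh)
  have hb_a : b ≠ a := fun he => hne (he ▸ IsConj.refl a)
  have hb_a' : b ≠ g * a * g⁻¹ := fun he => hne (he ▸ isConj_iff.mpr ⟨g, rfl⟩)
  have hb_a'' : b ≠ g * (g * a * g⁻¹) * g⁻¹ := fun he =>
    hne (he ▸ isConj_iff.mpr ⟨g * g, by group⟩)
  have ha''_a : g * (g * a * g⁻¹) * g⁻¹ ≠ a := by
    intro he
    refine hmoves a ha ha1 ?_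
    have h6 : g ^ 3 * a = a * g ^ 3 := (mem_centralizer_iff.mp hg3 a ha).symm
    have h7 : g * (g * (g * a * g⁻¹) * g⁻¹) * g⁻¹ = g ^ 3 * a * (g ^ 3)⁻¹ := by
      rw [pow_succ, pow_two]; group
    rw [he, h6, mul_inv_cancel_right] at h7
    exact h7
  haveI := Fintype.ofFinite (T : Subgroup G)
  have hcard : ({1, ⟨a, ha⟩, ⟨_, ha'⟩, ⟨_, ha''⟩, ⟨b, hb⟩} : Finset (T : Subgroup G)).card = 5 := by
    rw [Finset.card_insert_of_notMem, Finset.card_insert_of_notMem, Finset.card_insert_of_notMem,
      Finset.card_pair]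
    · exact fun he => hb_a'' (congrArg Subtype.val he).symm
    · simp only [Finset.mem_insert, Finset.mem_singleton, Subtype.mk.injEq, not_or]
      exact ⟨fun he => hmoves a ha ha1 (hinj _ _ he).symm, fun he => hb_a' he.symm⟩
    · simp only [Finset.mem_insert, Finset.mem_singleton, Subtype.mk.injEq, not_or]
      exact ⟨fun he => hmoves a ha ha1 he.symm, fun he => ha''_a he.symm, fun he => hb_a he.symm⟩
    · simp only [Finset.mem_insert, Finset.mem_singleton, Subtype.ext_iff, Subgroup.coe_one, not_or]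
      exact ⟨fun he => ha1 he.symm, fun he => ha'1 he.symm,
        fun he => ha'1 (conj_eq_one_iff.mp he.symm), fun he => hb1 he.symm⟩
  have h5 := Finset.card_le_univ ({1, ⟨a, ha⟩, ⟨_, ha'⟩, ⟨_, ha''⟩, ⟨b, hb⟩} : Finset (T : Subgroup G))
  rw [hcard, ← Nat.card_eq_fintype_card, hTc] at h5
  omega

/-- An involution centralizing `P` which is forced to fix a single coset of `N(P)`. -/
theorem eq_one_coset (hG : ¬ IsMulCommutative G) {p : ℕ} [Fact p.Prime] (P : Sylow p G)
    (hP : Nat.card (P : Subgroup G) = p) {u : G} (hu : orderOf u = 2)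
    (huC : u ∈ centralizer ((P : Subgroup G) : Set G))
    (hf : ∀ f, f < (normalizer ((P : Subgroup G) : Set G)).index →
      f % 4 = (normalizer ((P : Subgroup G) : Set G)).index % 4 → f ≡ 1 [MOD p] → f = 1) {g : G}
    (hg : g⁻¹ * u * g ∈ normalizer ((P : Subgroup G) : Set G)) :
    g ∈ normalizer ((P : Subgroup G) : Set G) := by
  set N := normalizer ((P : Subgroup G) : Set G) with hN
  have hNt : N ≠ ⊤ := normalizer_sylow_ne_top hG (hP ▸ card_subgroup_dvd_card (P : Subgroup G)) P
  have h4 := card_fixedBy_mod_four hG (X := G ⧸ N) hu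
  rw [← index_eq_card] at h4
  have hlt : Nat.card (fixedBy (G ⧸ N) u) < N.index := by
    refine lt_of_le_of_ne ?_ (Order5040.card_fixedBy_ne_index hNt hu)
    rw [index_eq_card]
    exact Nat.card_le_card_of_injective Subtype.val Subtype.val_injective
  have hone := hf _ hlt h4 (Order5040.card_fixedBy_modEq_one P hP le_rfl huC)
  haveI := (Nat.card_eq_one_iff_unique.mp hone).1
  have hu1 : ((1 : G) : G ⧸ N) ∈ fixedBy (G ⧸ N) u := by
    show QuotientGroup.mk (u * 1) = QuotientGroup.mk 1
    rw [QuotientGroup.eq, mul_one, mul_one]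
    exact N.inv_mem (centralizer_le_normalizer' _ huC)
  have hu2 : (g : G ⧸ N) ∈ fixedBy (G ⧸ N) u := by
    show QuotientGroup.mk (u * g) = QuotientGroup.mk g
    rw [QuotientGroup.eq]
    have h1 := N.inv_mem hg
    rwa [show (g⁻¹ * u * g)⁻¹ = (u * g)⁻¹ * g by group] at h1
  have h2 := congrArg Subtype.val
    (Subsingleton.elim (⟨_, hu2⟩ : fixedBy (G ⧸ N) u) ⟨_, hu1⟩)
  rw [QuotientGroup.eq, mul_one] at h2
  simpa using N.inv_mem h2

/-- An involution centralizing `P` whose centralizer is `N(P)` cannot be forced to fix one coset. -/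
theorem false_of_unique_fixed (hG : ¬ IsMulCommutative G) {p : ℕ} [Fact p.Prime] (P : Sylow p G)
    (hP : Nat.card (P : Subgroup G) = p) {u : G} (hu : orderOf u = 2)
    (huC : u ∈ centralizer ((P : Subgroup G) : Set G))
    (heq : centralizer ({u} : Set G) = normalizer ((P : Subgroup G) : Set G))
    (hf : ∀ f, f < (normalizer ((P : Subgroup G) : Set G)).index →
      f % 4 = (normalizer ((P : Subgroup G) : Set G)).index % 4 → f ≡ 1 [MOD p] → f = 1) : False := by
  refine Order5040.false_of_isolated hG hu fun g hg => ?_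
  have hgN : g⁻¹ ∈ normalizer ((P : Subgroup G) : Set G) := by
    refine eq_one_coset hG P hP hu huC hf ?_
    rw [inv_inv, ← heq]
    exact mem_centralizer_singleton_iff.mpr hg.eq.symm
  have h1 := mem_centralizer_singleton_iff.mp (heq.ge (inv_mem_iff.mp hgN))
  rw [h1, mul_inv_cancel_right]

end Cfsg.Agent.Lib.SmallGroups.Below6232
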