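/-
A decidable filter excluding most orders in `(3640, 6232]` as orders of non-abelian simple groups.
-/
import Mathlib
import Cfsg.Agent.Lib.SmallGroups.Below1092.Kill

set_option autoImplicit false
set_option linter.style.haveILetI false

namespace Cfsg.Agent.Lib.SmallGroups.Below6232

open Subgroup
open Cfsg.Agent.Lib.SmallGroups.Below1092 (smallPrime prime_of_smallPrime threePrimeRule selfRule
  evenRule sylRule addFac false_of_two_primes false_of_selfRule false_of_sylRule)

/-- primality test for numbers below `80²` -/
def bigPrime (p : ℕ) : Bool :=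
  decide (2 ≤ p) && decide (p < 6400) &&
    (List.range (min p 80)).all (fun d => decide (d < 2) || !(p % d == 0))

theorem prime_of_bigPrime {p : ℕ} (h : bigPrime p = true) : p.Prime := by
  simp only [bigPrime, Bool.and_eq_true, decide_eq_true_eq, List.all_eq_true, List.mem_range,
    Bool.or_eq_true, Bool.not_eq_true', beq_eq_false_iff_ne] at h
  obtain ⟨⟨h2, hp⟩, h3⟩ := h
  rw [Nat.prime_def_le_sqrt]
  refine ⟨h2, fun m hm1 hm2 hmd => ?_⟩
  have hs : Nat.sqrt p < 80 := Nat.sqrt_lt'.mpr (by norm_num; omega)
  have hmp : m < p := lt_of_le_of_lt hm2 (Nat.sqrt_lt_self (by omega))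
  rcases h3 m (by omega) with h | h
  · omega
  · exact h (Nat.mod_eq_zero_of_dvd hmd)

def twoRule (n : ℕ) : List (ℕ × ℕ) → Bool
  | [(p, a)] => bigPrime p && (n == p ^ a)
  | [(p, a), (q, b)] => bigPrime p && bigPrime q && (n == p ^ a * q ^ b)
  | _ => false

def leastDiv (n : ℕ) : ℕ :=
  ((List.range 80).find? (fun d => decide (2 ≤ d) && n % d == 0)).getD n

def factors : ℕ → ℕ → List (ℕ × ℕ)
  | 0, _ => []
  | k + 1, n => if n ≤ 1 then [] else addFac (leastDiv n) (factors k (n / leastDiv n))

/-- the order `n` is excluded -/
def excluded (n : ℕ) : Bool :=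
  let l := factors 13 n
  twoRule n l || (match l with
    | [(p, 1), (q, 1), (r, 1)] => threePrimeRule n [(p, 1), (q, 1), (r, 1)]
    | [(p, a), (q, b), (r, c)] =>
        (a + b + c == 4 && threePrimeRule n [(p, a), (q, b), (r, c)]) ||
          (p == 2 && q == 3 && c == 1 && selfRule n r a b)
    | _ => false) || evenRule n || l.any (fun x => sylRule n x.1 x.2)

/-- The orders left by the filter. -/
def survivors : List ℕ :=
  [3648, 3696, 3744, 3780, 3960, 4032, 4080, 4160, 4200, 4212, 4320, 4400, 4480, 4500, 4620, 4680,
    4725, 4760, 4800, 4928, 4960, 5040, 5104, 5148, 5200, 5292, 5400, 5460, 5472, 5600, 5616, 5724,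
    5760, 5880, 5940, 6000, 6048, 6072, 6160]

/-- the orders left by the filter -/
theorem excluded_or_mem : (List.range 2592).all (fun i => excluded (3641 + i) ||
    survivors.contains (3641 + i)) = true := by
  decide +kernel

variable {G : Type*} [Group G] [Finite G] [IsSimpleGroup G]

theorem false_of_excluded (hG : ¬ IsMulCommutative G) (h : excluded (Nat.card G) = true) :
    False := by
  unfold excluded at h
  generalize factors 13 (Nat.card G) = l at h
  simp only [Bool.or_eq_true] at h
  rcases h with ((h | h) | h) | h
  · unfold twoRule at h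
    split at h
    · next p a =>
      simp only [Bool.and_eq_true, beq_iff_eq] at h
      exact false_of_two_primes hG (prime_of_bigPrime h.1) (prime_of_bigPrime h.1)
        (a := a) (b := 0) (by rw [h.2]; simp)
    · next p a q b =>
      simp only [Bool.and_eq_true, beq_iff_eq] at h
      exact false_of_two_primes hG (prime_of_bigPrime h.1.1) (prime_of_bigPrime h.1.2) h.2
    · exact Bool.noConfusion h
  · have three : ∀ {p a q b r c : ℕ}, a + b + c ≠ 0 →
        threePrimeRule (Nat.card G) [(p, a), (q, b), (r, c)] = true → False := by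
      intro p a q b r c hne h
      simp only [threePrimeRule, Bool.and_eq_true, Bool.or_eq_true, beq_iff_eq, decide_eq_true_eq,
        Bool.not_eq_true', beq_eq_false_iff_ne] at h
      obtain ⟨⟨⟨hp, hq⟩, hr⟩, h⟩ := h
      have hp := prime_of_smallPrime hp
      have hq := prime_of_smallPrime hq
      have hr := prime_of_smallPrime hr
      rcases h with (⟨⟨h1, h2⟩, h3⟩ | ⟨h60, (h3 | h3) | h3⟩) | h3
      · haveI : Fact r.Prime := ⟨hr⟩
        have R : Sylow r G := default
        have hn := Cfsg.Agent.S0987.result p q r hp hq h1 h2 h3 R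
        exact normalizer_sylow_ne_top hG (h3 ▸ dvd_mul_left r _) R (normalizer_eq_top_iff.mpr hn)
      · exact h60 (Cfsg.Agent.S0988.result p q r hp hq hr h3)
      · exact h60 (Cfsg.Agent.S0988.result q p r hq hp hr h3)
      · exact h60 (Cfsg.Agent.S0988.result r p q hr hp hq h3)
      · exact hne h3
    split at h
    · exact three (by omega) h
    · next p a q b r c _ =>
      simp only [Bool.and_eq_true, Bool.or_eq_true, beq_iff_eq] at h
      rcases h with h | h
      · exact three (by omega) h.2
      · exact false_of_selfRule hG h.2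
    · exact Bool.noConfusion h
  · simp only [evenRule, Bool.and_eq_true, beq_iff_eq, Bool.not_eq_true', beq_eq_false_iff_ne] at h
    rcases Cfsg.Agent.S0499.result hG (Nat.even_iff.mpr h.1.1.1) with h' | h' | h' <;> omega
  · rw [List.any_eq_true] at h
    obtain ⟨x, -, hx⟩ := h
    exact false_of_sylRule hG hx

/-- The orders in `(3640, 6232]` that need individual treatment. -/
theorem mem_survivors (hG : ¬ IsMulCommutative G) (h1 : 3640 < Nat.card G) (h2 : Nat.card G ≤ 6232) :
    Nat.card G ∈ survivors := by
  have h3 := List.all_eq_true.mp excluded_or_mem (Nat.card G - 3641) (List.mem_range.mpr (by omega))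
  rw [show 3641 + (Nat.card G - 3641) = Nat.card G by omega, Bool.or_eq_true] at h3
  rcases h3 with h3 | h3
  · exact (false_of_excluded hG h3).elim
  · rwa [List.contains_iff_mem] at h3

end Cfsg.Agent.Lib.SmallGroups.Below6232
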