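/-
Abelian Sylow subgroups of order `p ^ 2`: the normalizers of nontrivial Sylow intersections.
-/
import Mathlib
import Cfsg.Agent.Lib.SmallGroups.Below6232.Tools
import Cfsg.Agent.Lib.SmallGroups.Intersection

set_option autoImplicit false
set_option linter.style.haveILetI false

namespace Cfsg.Agent.Lib.SmallGroups.Below6232

open Subgroup MulAction
open scoped Nat Pointwise
open Cfsg.Agent.Lib.SmallGroups.Below1092 (sylow_form)

universe u

variable {G : Type u} [Group G] [Finite G] {p : ℕ} [hp : Fact p.Prime]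

omit [Finite G] in
/-- Sylow subgroups of order `p ^ 2` are commutative. -/
theorem commute_of_sq {P : Subgroup G} (hP : Nat.card P = p ^ 2) {x y : G} (hx : x ∈ P) (hy : y ∈ P) :
    x * y = y * x :=
  congrArg Subtype.val
    ((IsPGroup.isMulCommutative_of_card_eq_prime_sq (p := p) hP).is_comm.comm (⟨x, hx⟩ : P) ⟨y, hy⟩)

omit [Finite G] in
theorem le_normalizer_of_sq {P D : Subgroup G} (hP : Nat.card P = p ^ 2) (hD : D ≤ P) :
    P ≤ normalizer (D : Set G) := fun x hx =>
  mem_normalizer_iff.mpr fun w => by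
    constructor
    · intro hw
      rw [commute_of_sq hP hx (hD hw), mul_inv_cancel_right]
      exact hw
    · intro hw
      have hwP : w ∈ P := by
        have h1 := P.mul_mem (P.mul_mem (P.inv_mem hx) (hD hw)) hx
        simpa [mul_assoc] using h1
      rwa [commute_of_sq hP hx hwP, mul_inv_cancel_right] at hw

/-- Two Sylow subgroups of order `p ^ 2` meet in order `p` unless they coincide or meet trivially. -/
theorem card_meet (P R : Sylow p G) (hP : ∀ Q : Sylow p G, Nat.card (Q : Subgroup G) = p ^ 2)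
    (hne : R ≠ P) {D : Subgroup G} (hD : D ≤ (P : Subgroup G) ⊓ (R : Subgroup G)) (hD1 : D ≠ ⊥) :
    Nat.card D = p ∧ D = (P : Subgroup G) ⊓ (R : Subgroup G) := by
  have h1 : Nat.card ((P : Subgroup G) ⊓ (R : Subgroup G) : Subgroup G) ∣ p ^ 2 :=
    hP P ▸ card_dvd_of_le inf_le_left
  obtain ⟨i, hi, hcard⟩ := (Nat.dvd_prime_pow hp.out).mp h1
  have hi2 : i ≠ 2 := by
    rintro rfl
    refine hne (Sylow.ext ?_)
    rw [← Subgroup.eq_of_le_of_card_ge (inf_le_left : (P : Subgroup G) ⊓ (R : Subgroup G) ≤ _)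
      (by rw [hcard, hP]), Subgroup.eq_of_le_of_card_ge
      (inf_le_right : (P : Subgroup G) ⊓ (R : Subgroup G) ≤ _) (by rw [hcard, hP])]
  have hp1 : 1 < Nat.card D := D.one_lt_card_iff_ne_bot.mpr hD1
  have hd := card_dvd_of_le hD
  rw [hcard] at hd
  have hle := Nat.le_of_dvd (pow_pos hp.out.pos i) hd
  have hi1 : i = 1 := by
    rcases i with _ | _ | i
    · rw [pow_zero] at hle; omega
    · rfl
    · omega
  subst hi1
  rw [pow_one] at hd hle hcard
  rcases (Nat.dvd_prime hp.out).mp hd with h2 | h2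
  · omega
  · exact ⟨h2, Subgroup.eq_of_le_of_card_ge hD (by rw [hcard, h2])⟩

/-- The Sylow subgroups above `D` are the Sylow subgroups of its normalizer. -/
theorem card_above (P : Sylow p G) (hP : ∀ Q : Sylow p G, Nat.card (Q : Subgroup G) = p ^ 2)
    {D : Subgroup G} (hD : D ≤ (P : Subgroup G)) (hDp : IsPGroup p D) :
    Nat.card {R : Sylow p G // R ≠ P ∧ D ≤ (R : Subgroup G)} + 1 =
      Nat.card (Sylow p (normalizer (D : Set G))) := by
  classical
  set H := normalizer (D : Set G) with hH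
  have hPH : (P : Subgroup G) ≤ H := le_normalizer_of_sq (hP P) hD
  let f : {R : Sylow p G // R ≠ P ∧ D ≤ (R : Subgroup G)} → {Q : Sylow p H // Q ≠ P.subtype hPH} :=
    fun R => ⟨R.1.subtype (le_normalizer_of_sq (hP R.1) R.2.2),
      fun h => R.2.1 (Sylow.subtype_injective h)⟩
  have hf : Function.Bijective f := by
    constructor
    · intro R R' h
      exact Subtype.ext (Sylow.subtype_injective (hP := le_normalizer_of_sq (hP R.1) R.2.2)
        (hQ := le_normalizer_of_sq (hP R'.1) R'.2.2) (congrArg Subtype.val h))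
    · rintro ⟨Q, hQ⟩
      have hQc : Nat.card (Q : Subgroup H) = p ^ 2 := by
        obtain ⟨h, hh⟩ := MulAction.exists_smul_eq H (P.subtype hPH) Q
        rw [Nat.card_congr (Sylow.equiv Q (P.subtype hPH)).toEquiv]
        exact (Nat.card_congr (subgroupOfEquivOfLe hPH).toEquiv).trans (hP P)
      let R : Sylow p G := Sylow.ofCard ((Q : Subgroup H).map H.subtype) (by
        rw [card_map_of_injective H.subtype_injective, hQc, ← hP P, P.card_eq_multiplicity])
      have hRH : (R : Subgroup G) ≤ H := map_subtype_le _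
      have hDR : D ≤ (R : Subgroup G) := by
        have hW : IsPGroup p ((R : Subgroup G) ⊔ D : Subgroup G) :=
          R.isPGroup'.to_sup_of_normal_right' hDp hRH
        exact le_sup_right.trans (R.3 hW le_sup_left).le
      have hsub : R.subtype hRH = Q := by
        apply Sylow.ext
        rw [Sylow.coe_subtype]
        exact Subgroup.comap_map_eq_self_of_injective H.subtype_injective _
      refine ⟨⟨R, fun h => hQ ?_, hDR⟩, Subtype.ext hsub⟩
      rw [← hsub]
      exact Sylow.ext (by rw [Sylow.coe_subtype, Sylow.coe_subtype, h])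
  rw [Nat.card_congr (Equiv.ofBijective f hf)]
  haveI := Fintype.ofFinite (Sylow p H)
  rw [Nat.card_eq_fintype_card, Fintype.card_subtype_compl, Fintype.card_subtype_eq,
    ← Nat.card_eq_fintype_card]
  have : 0 < Nat.card (Sylow p H) := Nat.card_pos
  omega

/-- The Sylow subgroups above the conjugates of `D` inside `P` are all different. -/
theorem orbit_bound (P : Sylow p G) (hP : ∀ Q : Sylow p G, Nat.card (Q : Subgroup G) = p ^ 2)
    {D : Subgroup G} (hD : D ≤ (P : Subgroup G)) (hDc : Nat.card D = p) :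
    Nat.card {R : Sylow p G // R ≠ P ∧ D ≤ (R : Subgroup G)} *
        ((normalizer (D : Set G)).subgroupOf (normalizer ((P : Subgroup G) : Set G))).index ≤
      Nat.card {R : Sylow p G // R ≠ P ∧ (P : Subgroup G) ⊓ (R : Subgroup G) ≠ ⊥} := by
  classical
  set N := normalizer ((P : Subgroup G) : Set G) with hN
  set H := normalizer (D : Set G) with hH
  rw [mul_comm, Subgroup.index_eq_card, ← Nat.card_prod]
  have hD1 : D ≠ ⊥ := fun h => by
    rw [h, Subgroup.card_bot] at hDc
    exact hp.out.ne_one hDc.symm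
  have hconj : ∀ g ∈ N, MulAut.conj g • D ≤ (P : Subgroup G) := fun g hg => by
    rintro _ ⟨d, hd, rfl⟩
    exact (mem_normalizer_iff.mp hg d).mp (hD hd)
  have hne : ∀ g : G, MulAut.conj g • D ≠ ⊥ := fun g hb => hD1 (by
    rw [← inv_smul_smul (MulAut.conj g) D, hb, Subgroup.smul_bot])
  let f : (N ⧸ H.subgroupOf N) × {R : Sylow p G // R ≠ P ∧ D ≤ (R : Subgroup G)} →
      {R : Sylow p G // R ≠ P ∧ (P : Subgroup G) ⊓ (R : Subgroup G) ≠ ⊥} := fun z =>
    ⟨((z.1.out : N) : G) • z.2.1, fun h => z.2.2.1 (by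
        refine smul_left_cancel ((z.1.out : N) : G) ?_
        rw [h, Sylow.smul_eq_iff_mem_normalizer.mpr (z.1.out).2]),
      fun hb => hne ((z.1.out : N) : G) (le_bot_iff.mp (hb ▸ le_inf (hconj _ (z.1.out).2) (by
        rw [Sylow.coe_subgroup_smul]
        exact Subgroup.pointwise_smul_le_pointwise_smul_iff.mpr z.2.2.2)))⟩
  refine Nat.card_le_card_of_injective f fun z z' hzz => ?_
  have h1 : ((z.1.out : N) : G) • z.2.1 = ((z'.1.out : N) : G) • z'.2.1 := congrArg Subtype.val hzz
  set g := ((z.1.out : N) : G) with hg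
  set g' := ((z'.1.out : N) : G) with hg'
  have key : ∀ w : (N ⧸ H.subgroupOf N) × {R : Sylow p G // R ≠ P ∧ D ≤ (R : Subgroup G)},
      MulAut.conj ((w.1.out : N) : G) • D =
        (P : Subgroup G) ⊓ ((((w.1.out : N) : G) • w.2.1 : Sylow p G) : Subgroup G) := by
    intro w
    refine (card_meet P _ hP (f w).2.1 ?_ (hne _)).2
    refine le_inf (hconj _ (w.1.out).2) ?_
    rw [Sylow.coe_subgroup_smul]
    exact Subgroup.pointwise_smul_le_pointwise_smul_iff.mpr w.2.2.2
  have h2 : MulAut.conj g • D = MulAut.conj g' • D := by rw [hg, hg', key z, key z', ← hg, ← hg', h1]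
  have h3 : g⁻¹ * g' ∈ H := by
    have h4 : MulAut.conj (g⁻¹ * g') • D = D := by
      rw [map_mul, mul_smul, ← h2, map_inv, inv_smul_smul]
    rw [hH, mem_normalizer_iff]
    intro w
    conv_rhs => rw [← h4]
    rw [show g⁻¹ * g' * w * (g⁻¹ * g')⁻¹ = MulAut.conj (g⁻¹ * g') • w from rfl,
      Subgroup.smul_mem_pointwise_smul_iff]
  have h5 : z.1 = z'.1 := by
    rw [← QuotientGroup.out_eq' z.1, ← QuotientGroup.out_eq' z'.1, QuotientGroup.eq, mem_subgroupOf]
    exact h3
  refine Prod.ext h5 (Subtype.ext ?_)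
  rw [show g' = g by rw [hg, hg', h5]] at h1
  exact smul_left_cancel g h1

/-- The candidate `(|N(D)|, n_p(N(D)), |N(P) ∩ N(D)|)`. -/
def localOrders (n p Ncard : ℕ) : List (ℕ × ℕ × ℕ) :=
  (List.range (n / p / p / p + 1)).flatMap fun i =>
    if !(i == 0) && (n / p / p) % (p * i + 1) == 0 && !(p == 5 && i == 4) then
      (List.range (Ncard / p / p + 1)).filterMap fun j =>
        if !(j == 0) && Ncard % (p * p * j) == 0 && n % ((p * i + 1) * (p * p * j)) == 0 &&
            decide (1 < n / ((p * i + 1) * (p * p * j))) &&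
            (decide (40 ≤ n / ((p * i + 1) * (p * p * j))) ||
              (n / ((p * i + 1) * (p * p * j))) ! % (2 * n) == 0) then
          some ((p * i + 1) * (p * p * j), p * i + 1, p * p * j) else none
    else []

variable [IsSimpleGroup G]

/-- The local data at a nontrivial intersection. -/
theorem exists_localOrder (hG : ¬ IsMulCommutative G) {n m : ℕ} (hn : Nat.card G = n)
    (hm : n = p ^ 2 * m) (hpm : ¬ p ∣ m) (P R : Sylow p G) (hne : R ≠ P) {D : Subgroup G}
    (hDP : D ≤ (P : Subgroup G)) (hDR : D ≤ (R : Subgroup G)) (hD1 : D ≠ ⊥) :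
    ∃ t ∈ localOrders n p (Nat.card (normalizer ((P : Subgroup G) : Set G))),
      Nat.card (normalizer (D : Set G)) = t.1 ∧
      Nat.card (Sylow p (normalizer (D : Set G))) = t.2.1 ∧
      Nat.card (normalizer ((P : Subgroup G) : Set G) ⊓ normalizer (D : Set G) : Subgroup G) = t.2.2 := by
  have hcard : Nat.card G = p ^ 2 * m := hn.trans hm
  have hPc : ∀ Q : Sylow p G, Nat.card (Q : Subgroup G) = p ^ 2 := fun Q => card_sylow_eq Q hcard hpm
  set H := normalizer (D : Set G) with hH
  set N := normalizer ((P : Subgroup G) : Set G) with hN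
  have hPH : (P : Subgroup G) ≤ H := le_normalizer_of_sq (hPc P) hDP
  have hRH : (R : Subgroup G) ≤ H := le_normalizer_of_sq (hPc R) hDR
  obtain ⟨hmod, hHc, hjN, hpj, hle⟩ := sylow_count_of_le P hPH
  rw [hPc] at hpj
  obtain ⟨j, hj⟩ := hpj
  obtain ⟨i, hi, hdi⟩ : ∃ i, i < m / p + 1 ∧ Nat.card (Sylow p H) = p * i + 1 := by
    refine sylow_form hp.out.two_le ?_ (fun h => hpm (h ▸ dvd_zero p)) hmod
    have h1 : Nat.card H ∣ p ^ 2 * m := hcard ▸ card_subgroup_dvd_card H
    rw [hHc] at h1
    have h2 : Nat.card (Sylow p H) ∣ p ^ 2 * m := (dvd_mul_right _ _).trans h1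
    refine (Nat.Coprime.pow_right 2 ?_).dvd_of_dvd_mul_left h2
    refine (hp.out.coprime_iff_not_dvd.mpr fun hd => ?_).symm
    have := Nat.mod_eq_zero_of_dvd hd
    omega
  have hone : Nat.card (Sylow p H) ≠ 1 := fun h1 => hne (eq_of_le_normalizer P R (hRH.trans (hle h1)))
  have hHt : H ≠ ⊤ := normalizer_ne_top hD1 fun ht => by
    have h1 := card_dvd_of_le hDP
    rw [ht, card_top, hPc, hcard] at h1
    have h2 : m ∣ 1 := Nat.dvd_of_mul_dvd_mul_left (pow_pos hp.out.pos 2) (by rw [mul_one]; exact h1)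
    have hm1 := Nat.dvd_one.mp h2
    exact not_isPGroup hG (IsPGroup.of_card (n := 2) (by rw [hcard, hm1, mul_one]))
  have hidx := H.card_mul_index
  rw [hHc, hdi, hj, hn] at hidx
  have hfac := two_mul_card_dvd_factorial hG hHt
  rw [hn] at hfac
  have hnp : n / p / p = m := by
    rw [hm, pow_two, mul_assoc, Nat.mul_div_cancel_left _ hp.out.pos,
      Nat.mul_div_cancel_left _ hp.out.pos]
  have hpos : 0 < (p * i + 1) * (p * p * j) := by
    rw [← hdi, ← pow_two, ← hj, ← hHc]; exact Nat.card_pos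
  have hdiv : n / ((p * i + 1) * (p * p * j)) = H.index := by
    rw [← hidx, pow_two, Nat.mul_div_cancel_left _ hpos]
  refine ⟨((p * i + 1) * (p * p * j), p * i + 1, p * p * j), ?_,
    by rw [hHc, hdi, hj, pow_two], hdi, by rw [hj, pow_two]⟩
  rw [localOrders, List.mem_flatMap]
  refine ⟨i, List.mem_range.mpr (by rw [hnp]; exact hi), ?_⟩
  rw [if_pos ?_, List.mem_filterMap]
  · refine ⟨j, List.mem_range.mpr ?_, ?_⟩
    · rw [Nat.div_div_eq_div_mul, Nat.lt_succ_iff, Nat.le_div_iff_mul_le (Nat.mul_pos hp.out.pos hp.out.pos)]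
      have h1 := Nat.le_of_dvd Nat.card_pos hjN
      rw [hj, pow_two] at h1
      linarith
    · rw [if_pos]
      simp only [Bool.and_eq_true, Bool.not_eq_true', beq_eq_false_iff_ne, beq_iff_eq, decide_eq_true_eq,
        Bool.or_eq_true]
      refine ⟨⟨⟨⟨fun hj0 => ?_, ?_⟩, ?_⟩, ?_⟩, Or.inr ?_⟩
      · rw [hj0, mul_zero] at hpos; simp at hpos
      · exact Nat.mod_eq_zero_of_dvd (by rw [← pow_two, ← hj]; exact hjN)
      · exact Nat.mod_eq_zero_of_dvd ⟨H.index, by rw [← hidx, pow_two]⟩
      · rw [hdiv]; exact H.one_lt_index_of_ne_top hHt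
      · rw [hdiv]; exact Nat.mod_eq_zero_of_dvd hfac
  · simp only [Bool.and_eq_true, Bool.not_eq_true', beq_eq_false_iff_ne, beq_iff_eq,
      Bool.and_eq_false_iff]
    refine ⟨⟨fun hi0 => hone (by rw [hdi, hi0]; simp), ?_⟩, ?_⟩
    · rw [hnp]
      refine Nat.mod_eq_zero_of_dvd ?_
      have h1 : Nat.card H ∣ p ^ 2 * m := hcard ▸ card_subgroup_dvd_card H
      rw [hHc] at h1
      have h2 : Nat.card (Sylow p H) ∣ p ^ 2 * m := (dvd_mul_right _ _).trans h1
      rw [← hdi]
      refine (Nat.Coprime.pow_right 2 ?_).dvd_of_dvd_mul_left h2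
      refine (hp.out.coprime_iff_not_dvd.mpr fun hd => ?_).symm
      have := Nat.mod_eq_zero_of_dvd hd
      omega
    · by_contra hcon
      push Not at hcon
      obtain ⟨rfl, rfl⟩ := hcon
      exact Cfsg.Agent.S1010.result hdi

omit [IsSimpleGroup G] in
/-- A nontrivial intersection exists when `n_p ≢ 1 (mod p ^ 2)`. -/
theorem exists_meet (hP : ∀ Q : Sylow p G, Nat.card (Q : Subgroup G) = p ^ 2)
    (h : ¬ Nat.card (Sylow p G) ≡ 1 [MOD p ^ 2]) :
    ∃ (P R : Sylow p G) (D : Subgroup G), R ≠ P ∧ D = (P : Subgroup G) ⊓ (R : Subgroup G) ∧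
      Nat.card D = p ∧ D ≠ ⊥ := by
  obtain ⟨P, R, hne, hD, -, -⟩ := exists_inter_index_prime (G := G) p h
  have hc : Nat.card ((P : Subgroup G) ⊓ (R : Subgroup G) : Subgroup G) = p := by
    rw [hP, pow_two] at hD
    exact Nat.eq_of_mul_eq_mul_left hp.out.pos hD
  refine ⟨P, R, _, hne.symm, rfl, hc, fun hb => ?_⟩
  rw [hb, Subgroup.card_bot] at hc
  exact hp.out.ne_one hc.symm

/-- With `|N(P)| = 2 * |P|`, `N(P)` normalizes every subgroup of `P`. -/
theorem normalizer_le_of_two (hG : ¬ IsMulCommutative G) (P : Sylow p G)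
    (hP : Nat.card (P : Subgroup G) = p ^ 2)
    (hN : Nat.card (normalizer ((P : Subgroup G) : Set G)) = 2 * p ^ 2) {D : Subgroup G}
    (hD : D ≤ (P : Subgroup G)) :
    normalizer ((P : Subgroup G) : Set G) ≤ normalizer (D : Set G) := by
  set N := normalizer ((P : Subgroup G) : Set G) with hNdef
  haveI : IsMulCommutative (P : Subgroup G) :=
    ⟨⟨(IsPGroup.isMulCommutative_of_card_eq_prime_sq (p := p) hP).is_comm.comm⟩⟩
  have hidx : ((P : Subgroup G).subgroupOf N).index = 2 := by
    have h1 := ((P : Subgroup G).subgroupOf N).card_mul_index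
    rw [Nat.card_congr (subgroupOfEquivOfLe (le_normalizer (H := (P : Subgroup G)))).toEquiv, hP, hN,
      mul_comm 2] at h1
    exact Nat.eq_of_mul_eq_mul_left (pow_pos hp.out.pos 2) h1
  have hinv : ∀ k ∈ N, k ∉ (P : Subgroup G) → ∀ x ∈ (P : Subgroup G), k * x * k⁻¹ = x⁻¹ := by
    intro k hk hkP x hx
    have hk2 : k * k ∈ (P : Subgroup G) :=
      mem_subgroupOf.mp (Subgroup.mul_self_mem_of_index_two hidx ⟨k, hk⟩)
    set y := x * (k * x * k⁻¹) with hy
    have hx' : k * x * k⁻¹ ∈ (P : Subgroup G) := (mem_normalizer_iff.mp hk x).mp hx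
    have hyP : y ∈ (P : Subgroup G) := mul_mem hx hx'
    have hky : k * y = y * k := by
      calc k * y = k * x * k⁻¹ * (k * k * x * (k * k)⁻¹) * k := by rw [hy]; group
        _ = k * x * k⁻¹ * x * k := by rw [commute_of_sq hP hk2 hx, mul_inv_cancel_right]
        _ = y * k := by rw [hy, commute_of_sq hP hx' hx]
    have h1 : y = 1 := eq_one_of_centralized_by_normalizer hG P hyP fun g hg => by
      by_cases hgP : g ∈ (P : Subgroup G)
      · exact commute_of_sq hP hgP hyP
      · have h2 : g⁻¹ * k ∈ (P : Subgroup G) := by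
          refine mem_subgroupOf.mp ((Subgroup.mul_mem_iff_of_index_two hidx (a := (⟨g, hg⟩ : N)⁻¹)
            (b := (⟨k, hk⟩ : N))).mpr ⟨fun h => absurd (mem_subgroupOf.mp h) ?_,
              fun h => absurd (mem_subgroupOf.mp h) hkP⟩)
          intro h3
          exact hgP (by simpa using (P : Subgroup G).inv_mem h3)
        set c := g⁻¹ * k with hc
        have hg' : g = k * c⁻¹ := by rw [hc]; group
        have hcy := commute_of_sq hP ((P : Subgroup G).inv_mem h2) hyP
        rw [hg', mul_assoc, hcy, ← mul_assoc, hky, mul_assoc]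
    exact eq_inv_of_mul_eq_one_right (hy ▸ h1)
  intro k hk
  by_cases hkP : k ∈ (P : Subgroup G)
  · exact le_normalizer_of_sq hP hD hkP
  · rw [mem_normalizer_iff]
    intro w
    constructor
    · intro hw
      rw [hinv k hk hkP w (hD hw)]
      exact inv_mem hw
    · intro hw
      have hwP : w ∈ (P : Subgroup G) := (mem_normalizer_iff.mp hk w).mpr (hD hw)
      rw [hinv k hk hkP w hwP] at hw
      exact inv_mem_iff.mp hw

omit [IsSimpleGroup G] in
/-- Two Sylow subgroups inside a subgroup with no room for several of them coincide. -/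
theorem eq_of_small {P R : Sylow p G} {K : Subgroup G} {m : ℕ} (hP : (P : Subgroup G) ≤ K)
    (hR : (R : Subgroup G) ≤ K)
    (hK : Nat.card K = p ^ 2 * m) (hpm : ¬ p ∣ m)
    (hm : ∀ d ∈ Nat.divisors m, d % p = 1 → d = 1) : R = P := by
  obtain ⟨hmod, -, -, -, hle⟩ := sylow_count_of_le P hP
  refine eq_of_le_normalizer P R (hR.trans (hle (hm _ (Nat.mem_divisors.mpr
    ⟨card_sylow_dvd hK hpm, fun h => hpm (h ▸ dvd_zero p)⟩) hmod)))

end Cfsg.Agent.Lib.SmallGroups.Below6232
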