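/-
Surviving orders in `(3640, 6232]` handled through Sylow intersections.
-/
import Mathlib
import Cfsg.Agent.Lib.SmallGroups.Below6232.Square

set_option autoImplicit false
set_option linter.style.haveILetI false

namespace Cfsg.Agent.Lib.SmallGroups.Below6232

open Subgroup MulAction

universe u

variable {G : Type u} [Group G] [Finite G] [IsSimpleGroup G] {p : ℕ} [hp : Fact p.Prime]

omit hp [IsSimpleGroup G] in
theorem card_others (P : Sylow p G) :
    Nat.card {R : Sylow p G // R ≠ P} + 1 = Nat.card (Sylow p G) := by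
  classical
  haveI := Fintype.ofFinite (Sylow p G)
  rw [Nat.card_eq_fintype_card, Fintype.card_subtype_compl, Fintype.card_subtype_eq,
    ← Nat.card_eq_fintype_card]
  have : 0 < Nat.card (Sylow p G) := Nat.card_pos
  omega

omit [IsSimpleGroup G] in
/-- The numerical form of the orbit bound. -/
theorem orbit_bound_num (P : Sylow p G) (hP : ∀ Q : Sylow p G, Nat.card (Q : Subgroup G) = p ^ 2)
    {D : Subgroup G} (hD : D ≤ (P : Subgroup G)) (hDc : Nat.card D = p) {nH j k : ℕ}
    (hn : Nat.card (Sylow p (normalizer (D : Set G))) = nH + 1)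
    (hj : Nat.card (normalizer ((P : Subgroup G) : Set G) ⊓ normalizer (D : Set G) : Subgroup G) = j)
    (hk : Nat.card (normalizer ((P : Subgroup G) : Set G)) = j * k) :
    nH * k ≤ Nat.card {R : Sylow p G // R ≠ P ∧ (P : Subgroup G) ⊓ (R : Subgroup G) ≠ ⊥} ∧
      nH * k + 1 ≤ Nat.card (Sylow p G) := by
  set N := normalizer ((P : Subgroup G) : Set G) with hN
  set H := normalizer (D : Set G) with hH
  have hab := card_above P hP hD (IsPGroup.of_card (n := 1) (by rw [hDc, pow_one]))
  rw [← hH, hn] at hab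
  have hb := orbit_bound P hP hD hDc
  rw [← hN, ← hH, show Nat.card {R : Sylow p G // R ≠ P ∧ D ≤ (R : Subgroup G)} = nH by omega] at hb
  have hidx := (H.subgroupOf N).card_mul_index
  rw [← inf_subgroupOf_left, Nat.card_congr (subgroupOfEquivOfLe (inf_le_left : N ⊓ H ≤ N)).toEquiv,
    hj, hk, inf_subgroupOf_left] at hidx
  have hj0 : 0 < j := hj ▸ Nat.card_pos
  have hidx' : (H.subgroupOf N).index = k := Nat.eq_of_mul_eq_mul_left hj0 hidx
  rw [hidx'] at hb
  refine ⟨hb, ?_⟩
  have h1 : Nat.card {R : Sylow p G // R ≠ P ∧ (P : Subgroup G) ⊓ (R : Subgroup G) ≠ ⊥} ≤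
      Nat.card {R : Sylow p G // R ≠ P} :=
    Nat.card_le_card_of_injective (fun R => ⟨R.1, R.2.1⟩) fun a b h =>
      Subtype.ext (congrArg (fun z : {R : Sylow p G // R ≠ P} => z.1) h)
  have h2 := card_others P
  omega

theorem false_of_self (hG : ¬ IsMulCommutative G) (hdvd : p ∣ Nat.card G) (P : Sylow p G)
    (hP : Nat.card (P : Subgroup G) = p ^ 2)
    (hN : Nat.card (normalizer ((P : Subgroup G) : Set G)) = p ^ 2) : False := by
  haveI : IsMulCommutative (P : Subgroup G) :=
    ⟨⟨(IsPGroup.isMulCommutative_of_card_eq_prime_sq (p := p) hP).is_comm.comm⟩⟩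
  exact normalizer_ne_self_of_isMulCommutative hG hdvd P
    (Subgroup.eq_of_le_of_card_ge le_normalizer (by rw [hN, hP])).symm

omit [IsSimpleGroup G] in
/-- No two Sylow subgroups fit into a group of order `2 * p ^ 2 * m` for small odd `m`. -/
theorem false_of_half {P R : Sylow p G} {H : Subgroup G} {m : ℕ} (hne : R ≠ P)
    (hP : (P : Subgroup G) ≤ H) (hR : (R : Subgroup G) ≤ H)
    (hPc : ∀ Q : Sylow p G, Nat.card (Q : Subgroup G) = p ^ 2) (hH : Nat.card H = 2 * (p ^ 2 * m))
    (hodd : Odd (p ^ 2 * m)) (hpm : ¬ p ∣ m) (hm : ∀ d ∈ Nat.divisors m, d % p = 1 → d = 1) : False := by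
  obtain ⟨K, hK, hKmem⟩ := exists_half hH hodd
  have hoddp : Odd (p ^ 2) := (Nat.odd_mul.mp hodd).1
  exact hne (eq_of_small (hKmem _ hP (by rw [hPc]; exact hoddp)) (hKmem _ hR (by rw [hPc]; exact hoddp))
    hK hpm hm)

theorem false_4200 (hG : ¬ IsMulCommutative G) (h : Nat.card G = 4200) : False := by
  haveI : Fact (Nat.Prime 5) := ⟨by norm_num⟩
  have hc : Nat.card G = 5 ^ 2 * 168 := by rw [h]; norm_num
  have hP : ∀ Q : Sylow 5 G, Nat.card (Q : Subgroup G) = 5 ^ 2 := fun Q => card_sylow_eq Q hc (by norm_num)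
  have hn := card_sylow_mem hG (p := 5) hc (by norm_num) two_ne_zero
  rw [show (Nat.divisors 168).filter (fun d => d % 5 = 1 ∧ d ≠ 1) = {6, 21, 56} from by decide +kernel] at hn
  simp only [Finset.mem_insert, Finset.mem_singleton] at hn
  have hfac := two_mul_card_dvd_factorial_card_sylow hG (p := 5) (by rw [h]; norm_num)
  have hn' : Nat.card (Sylow 5 G) = 56 := by
    rcases hn with hn | hn | hn
    · rw [hn, h] at hfac; norm_num [Nat.factorial] at hfac
    · exact absurd hn Cfsg.Agent.S1010.result
    · exact hn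
  obtain ⟨P, R, D, hne, hD, -, hD1⟩ := exists_meet hP (by rw [hn']; decide)
  have hmul := card_normalizer_sylow_mul P
  rw [h, hn'] at hmul
  have hN : Nat.card (normalizer ((P : Subgroup G) : Set G)) = 75 := by omega
  obtain ⟨t, ht, hH, -, -⟩ := exists_localOrder hG h (m := 168) (by norm_num) (by norm_num) P R hne
    (D := D) (hD ▸ inf_le_left) (hD ▸ inf_le_right) hD1
  rw [hN, show localOrders 4200 5 75 = [(150, 6, 25)] from by decide +kernel] at ht
  simp only [List.mem_cons, List.not_mem_nil, or_false] at ht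
  subst ht
  exact false_of_half hne (le_normalizer_of_sq (hP P) (hD ▸ inf_le_left))
    (le_normalizer_of_sq (hP R) (hD ▸ inf_le_right)) hP (m := 3) (by rw [hH]; norm_num) (by decide)
    (by norm_num) (by decide +kernel)

theorem false_of_cubed (hG : ¬ IsMulCommutative G) [Fact (Nat.Prime 5)] {m : ℕ}
    (h : Nat.card G = 5 ^ 3 * m) (hm : ¬ 5 ∣ m) (hbad : ¬ Nat.card (Sylow 5 G) ≡ 1 [MOD 5 ^ 2])
    {B : ℕ} (hB : m ≤ 6 * B + 5) (hfac : ¬ 2 * Nat.card G ∣ Nat.factorial B) : False := by
  obtain ⟨P, R, hne, hD, hPN, hRN⟩ := exists_inter_index_prime (G := G) 5 hbad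
  have hP := card_sylow_eq P h hm
  set D := (P : Subgroup G) ⊓ (R : Subgroup G) with hDdef
  set H := normalizer (D : Set G) with hH
  have hD25 : Nat.card D = 25 := by rw [hP] at hD; omega
  have hHt : H ≠ ⊤ := normalizer_ne_top (fun hb => by rw [hb, Subgroup.card_bot] at hD25; norm_num at hD25)
    fun ht => by
      have hDle : D ≤ (P : Subgroup G) := inf_le_left
      have h1 := card_dvd_of_le hDle
      rw [ht, card_top, hP, h] at h1
      have h2 : m ∣ 1 := Nat.dvd_of_mul_dvd_mul_left (show 0 < 5 ^ 3 by norm_num) (by rw [mul_one]; exact h1)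
      exact not_isPGroup hG (IsPGroup.of_card (p := 5) (n := 3) (by rw [h, Nat.dvd_one.mp h2, mul_one]))
  obtain ⟨hmod, hHc, -, hpj, hle⟩ := sylow_count_of_le P hPN
  have hone : Nat.card (Sylow 5 H) ≠ 1 := fun h1 =>
    hne (eq_of_le_normalizer P R (hRN.trans (hle h1))).symm
  have h6 : 6 ≤ Nat.card (Sylow 5 H) := by
    have : 0 < Nat.card (Sylow 5 H) := Nat.card_pos
    omega
  have h125 : 125 ≤ Nat.card (normalizer ((P : Subgroup G) : Set G) ⊓ H : Subgroup G) := by
    refine le_trans (le_of_eq ?_) (Nat.le_of_dvd Nat.card_pos hpj)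
    rw [hP]; norm_num
  have hmul := H.card_mul_index
  rw [hHc, h] at hmul
  have hHi : H.index ≤ B := by
    by_contra hlt
    push Not at hlt
    nlinarith [Nat.mul_le_mul (Nat.mul_le_mul h6 h125) (show B + 1 ≤ H.index by omega)]
  exact hfac ((two_mul_card_dvd_factorial hG hHt).trans (Nat.factorial_dvd_factorial hHi))

theorem false_4500 (hG : ¬ IsMulCommutative G) (h : Nat.card G = 4500) : False := by
  haveI : Fact (Nat.Prime 5) := ⟨by norm_num⟩
  have hc : Nat.card G = 5 ^ 3 * 36 := by rw [h]; norm_num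
  have hn := card_sylow_mem hG (p := 5) hc (by norm_num) (by norm_num)
  rw [show (Nat.divisors 36).filter (fun d => d % 5 = 1 ∧ d ≠ 1) = {6, 36} from by decide +kernel] at hn
  simp only [Finset.mem_insert, Finset.mem_singleton] at hn
  refine false_of_cubed hG hc (by norm_num) ?_ (B := 6) (by norm_num) (by rw [h]; norm_num [Nat.factorial])
  rcases hn with hn | hn <;> rw [hn] <;> decide

theorem false_6000 (hG : ¬ IsMulCommutative G) (h : Nat.card G = 6000) : False := by
  haveI : Fact (Nat.Prime 5) := ⟨by norm_num⟩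
  have hc : Nat.card G = 5 ^ 3 * 48 := by rw [h]; norm_num
  have hn := card_sylow_mem hG (p := 5) hc (by norm_num) (by norm_num)
  rw [show (Nat.divisors 48).filter (fun d => d % 5 = 1 ∧ d ≠ 1) = {6, 16} from by decide +kernel] at hn
  simp only [Finset.mem_insert, Finset.mem_singleton] at hn
  refine false_of_cubed hG hc (by norm_num) ?_ (B := 8) (by norm_num) (by rw [h]; norm_num [Nat.factorial])
  rcases hn with hn | hn <;> rw [hn] <;> decide

theorem false_4725 (hG : ¬ IsMulCommutative G) (h : Nat.card G = 4725) : False := by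
  haveI : Fact (Nat.Prime 5) := ⟨by norm_num⟩
  have hn := card_sylow_mem hG (p := 5) (k := 2) (m := 189) (by rw [h]; norm_num) (by norm_num) two_ne_zero
  rw [show (Nat.divisors 189).filter (fun d => d % 5 = 1 ∧ d ≠ 1) = {21} from by decide +kernel] at hn
  exact Cfsg.Agent.S1010.result (Finset.mem_singleton.mp hn)

theorem false_4800 (hG : ¬ IsMulCommutative G) (h : Nat.card G = 4800) : False := by
  classical
  haveI : Fact (Nat.Prime 5) := ⟨by norm_num⟩
  have hc : Nat.card G = 5 ^ 2 * 192 := by rw [h]; norm_num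
  have hP : ∀ Q : Sylow 5 G, Nat.card (Q : Subgroup G) = 5 ^ 2 := fun Q => card_sylow_eq Q hc (by norm_num)
  have hn := card_sylow_mem hG (p := 5) hc (by norm_num) two_ne_zero
  rw [show (Nat.divisors 192).filter (fun d => d % 5 = 1 ∧ d ≠ 1) = {6, 16, 96} from by decide +kernel] at hn
  simp only [Finset.mem_insert, Finset.mem_singleton] at hn
  have hfac := two_mul_card_dvd_factorial_card_sylow hG (p := 5) (by rw [h]; norm_num)
  have hn6 : Nat.card (Sylow 5 G) ≠ 6 := fun hn => by
    rw [hn, h] at hfac; norm_num [Nat.factorial] at hfac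
  have hbad : ¬ Nat.card (Sylow 5 G) ≡ 1 [MOD 5 ^ 2] := by
    rcases hn with hn | hn | hn <;> rw [hn] <;> decide
  obtain ⟨P, R, D, hne, hD, hDc, hD1⟩ := exists_meet hP hbad
  have hDP : D ≤ (P : Subgroup G) := hD ▸ inf_le_left
  have hDR : D ≤ (R : Subgroup G) := hD ▸ inf_le_right
  obtain ⟨t, ht, hH, hnH, hj⟩ := exists_localOrder hG h (m := 192) (by norm_num) (by norm_num) P R hne
    hDP hDR hD1
  have hmul := card_normalizer_sylow_mul P
  rw [h] at hmul
  rcases hn with hn | hn | hn
  · exact hn6 hn
  · have hN : Nat.card (normalizer ((P : Subgroup G) : Set G)) = 300 := by rw [hn] at hmul; omega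
    rw [hN, show localOrders 4800 5 300 = [(150, 6, 25), (300, 6, 50), (400, 16, 25)] from by
      decide +kernel] at ht
    simp only [List.mem_cons, List.not_mem_nil, or_false] at ht
    rcases ht with rfl | rfl | rfl
    · have := (orbit_bound_num P hP hDP hDc (nH := 5) (k := 12) hnH hj hN).2; omega
    · have := (orbit_bound_num P hP hDP hDc (nH := 5) (k := 6) hnH hj hN).2; omega
    · have := (orbit_bound_num P hP hDP hDc (nH := 15) (k := 12) hnH hj hN).2; omega
  · have hN : Nat.card (normalizer ((P : Subgroup G) : Set G)) = 50 := by rw [hn] at hmul; omega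
    rw [hN, show localOrders 4800 5 50 = [(150, 6, 25), (300, 6, 50), (400, 16, 25)] from by
      decide +kernel] at ht
    simp only [List.mem_cons, List.not_mem_nil, or_false] at ht
    have hNH : normalizer ((P : Subgroup G) : Set G) ≤ normalizer (D : Set G) :=
      normalizer_le_of_two hG P (hP P) (by rw [hN]; norm_num) hDP
    rw [inf_eq_left.mpr hNH, hN] at hj
    rcases ht with rfl | rfl | rfl
    · norm_num at hj
    · -- the centralizer of `D` in its normalizer is too small
      set H := normalizer (D : Set G) with hHdef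
      set K := H ⊓ centralizer (D : Set G) with hK
      have habel : ∀ Q : Sylow 5 G, D ≤ (Q : Subgroup G) → (Q : Subgroup G) ≤ K := fun Q hQ =>
        le_inf (le_normalizer_of_sq (hP Q) hQ) fun x hx => mem_centralizer_iff.mpr fun y hy =>
          commute_of_sq (hP Q) (hQ hy) hx
      have hKdvd : K.relIndex H ∣ 4 := by
        rw [hK, inf_relIndex_left]
        exact relIndex_centralizer_dvd hDc
      have hKne : K.relIndex H ≠ 1 := by
        intro h1
        have hle : H ≤ K := relIndex_eq_one.mp h1
        obtain ⟨⟨d, hd⟩, hd1⟩ : ∃ d : D, d ≠ 1 := by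
          haveI : Nontrivial D := (Subgroup.nontrivial_iff_ne_bot _).mpr hD1
          exact exists_ne 1
        haveI : IsMulCommutative ((P : Sylow 5 G) : Subgroup G) :=
          ⟨⟨(IsPGroup.isMulCommutative_of_card_eq_prime_sq (p := 5) (hP P)).is_comm.comm⟩⟩
        exact hd1 (Subtype.ext (eq_one_of_centralized_by_normalizer hG P (hDP hd) fun g hg =>
          (mem_centralizer_iff.mp ((hle (hNH hg)).2) d hd).symm))
      have hKmul : Nat.card K * K.relIndex H = 300 := by
        have h1 := (K.subgroupOf H).card_mul_index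
        rwa [Nat.card_congr (subgroupOfEquivOfLe (inf_le_left : K ≤ H)).toEquiv, hH] at h1
      have hle4 := Nat.le_of_dvd (by norm_num) hKdvd
      rcases (show Nat.card K = 2 * (5 ^ 2 * 3) ∨ Nat.card K = 5 ^ 2 * 3 by
        interval_cases K.relIndex H <;> omega) with hK1 | hK1
      · exact false_of_half hne (habel P hDP) (habel R hDR) hP hK1 (by decide) (by norm_num)
          (by decide +kernel)
      · exact hne (eq_of_small (habel P hDP) (habel R hDR) hK1 (by norm_num) (by decide +kernel))
    · norm_num at hj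

theorem false_5292 (hG : ¬ IsMulCommutative G) (h : Nat.card G = 5292) : False := by
  haveI : Fact (Nat.Prime 7) := ⟨by norm_num⟩
  have hc : Nat.card G = 7 ^ 2 * 108 := by rw [h]; norm_num
  have hP : ∀ Q : Sylow 7 G, Nat.card (Q : Subgroup G) = 7 ^ 2 := fun Q => card_sylow_eq Q hc (by norm_num)
  have hn := card_sylow_mem hG (p := 7) hc (by norm_num) two_ne_zero
  rw [show (Nat.divisors 108).filter (fun d => d % 7 = 1 ∧ d ≠ 1) = {36} from by decide +kernel] at hn
  rw [Finset.mem_singleton] at hn
  obtain ⟨P, R, D, hne, hD, -, hD1⟩ := exists_meet hP (by rw [hn]; decide)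
  have hmul := card_normalizer_sylow_mul P
  rw [h, hn] at hmul
  have hN : Nat.card (normalizer ((P : Subgroup G) : Set G)) = 147 := by omega
  obtain ⟨t, ht, -⟩ := exists_localOrder hG h (m := 108) (by norm_num) (by norm_num) P R hne
    (D := D) (hD ▸ inf_le_left) (hD ▸ inf_le_right) hD1
  rw [hN, show localOrders 5292 7 147 = [] from by decide +kernel] at ht
  exact List.not_mem_nil ht

theorem false_5400 (hG : ¬ IsMulCommutative G) (h : Nat.card G = 5400) : False := by
  classical
  haveI : Fact (Nat.Prime 5) := ⟨by norm_num⟩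
  have hc : Nat.card G = 5 ^ 2 * 216 := by rw [h]; norm_num
  have hP : ∀ Q : Sylow 5 G, Nat.card (Q : Subgroup G) = 5 ^ 2 := fun Q => card_sylow_eq Q hc (by norm_num)
  have hn := card_sylow_mem hG (p := 5) hc (by norm_num) two_ne_zero
  rw [show (Nat.divisors 216).filter (fun d => d % 5 = 1 ∧ d ≠ 1) = {6, 36, 216} from by decide +kernel] at hn
  simp only [Finset.mem_insert, Finset.mem_singleton] at hn
  have hfac := two_mul_card_dvd_factorial_card_sylow hG (p := 5) (by rw [h]; norm_num)
  rcases hn with hn | hn | hn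
  · rw [hn, h] at hfac; norm_num [Nat.factorial] at hfac
  · obtain ⟨P, R, D, hne, hD, hDc, hD1⟩ := exists_meet hP (by rw [hn]; decide)
    have hmul := card_normalizer_sylow_mul P
    rw [h, hn] at hmul
    have hN : Nat.card (normalizer ((P : Subgroup G) : Set G)) = 150 := by omega
    -- all nontrivial intersections with `P` behave alike
    have hall : ∀ (R' : Sylow 5 G) (D' : Subgroup G), R' ≠ P → D' ≤ (P : Subgroup G) →
        D' ≤ (R' : Subgroup G) → D' ≠ ⊥ →
        Nat.card (Sylow 5 (normalizer (D' : Set G))) = 5 + 1 ∧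
          Nat.card (normalizer ((P : Subgroup G) : Set G) ⊓ normalizer (D' : Set G) : Subgroup G) = 50 := by
      intro R' D' hne' hP' hR' hD'
      obtain ⟨t, ht, hH, hnH, hj⟩ := exists_localOrder hG h (m := 216) (by norm_num) (by norm_num) P R' hne'
        hP' hR' hD'
      rw [hN, show localOrders 5400 5 150 = [(150, 6, 25), (300, 6, 50), (450, 6, 75)] from by
        decide +kernel] at ht
      simp only [List.mem_cons, List.not_mem_nil, or_false] at ht
      rcases ht with rfl | rfl | rfl
      · exact (false_of_half hne' (le_normalizer_of_sq (hP P) hP') (le_normalizer_of_sq (hP R') hR') hP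
          (m := 3) (by rw [hH]; norm_num) (by decide) (by norm_num) (by decide +kernel)).elim
      · exact ⟨hnH, hj⟩
      · exact (false_of_half hne' (le_normalizer_of_sq (hP P) hP') (le_normalizer_of_sq (hP R') hR') hP
          (m := 9) (by rw [hH]; norm_num) (by decide) (by norm_num) (by decide +kernel)).elim
    obtain ⟨hn5, hj⟩ := hall R D hne (hD ▸ inf_le_left) (hD ▸ inf_le_right) hD1
    have hlow := (orbit_bound_num P hP (hD ▸ inf_le_left : D ≤ (P : Subgroup G)) hDc (nH := 5) (k := 3)
      hn5 hj (by rw [hN])).1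
    -- the Sylow subgroups meeting `P`, grouped by the intersection
    haveI := Fintype.ofFinite (Sylow 5 G)
    let f : Sylow 5 G → Subgroup G := fun R' => (P : Subgroup G) ⊓ (R' : Subgroup G)
    let A : Finset (Sylow 5 G) := Finset.univ.filter fun R' => R' ≠ P ∧ f R' ≠ ⊥
    have hA : Nat.card {R' : Sylow 5 G // R' ≠ P ∧ (P : Subgroup G) ⊓ (R' : Subgroup G) ≠ ⊥} = A.card := by
      rw [Nat.card_eq_fintype_card, Fintype.card_subtype]
    let L := A.image f
    have hfib : ∀ E ∈ L, (A.filter fun R' => f R' = E).card = 5 := by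
      intro E hE
      obtain ⟨R', hR', rfl⟩ := Finset.mem_image.mp hE
      obtain ⟨hne', hb'⟩ := (Finset.mem_filter.mp hR').2
      obtain ⟨hn6, -⟩ := hall R' (f R') hne' inf_le_left inf_le_right hb'
      have hEc : Nat.card (f R') = 5 := (card_meet P R' hP hne' le_rfl hb').1
      have hab := card_above P hP (D := f R') inf_le_left
        (IsPGroup.of_card (n := 1) (by rw [hEc, pow_one]))
      rw [hn6] at hab
      have heq : (A.filter fun R'' => f R'' = f R') =
          Finset.univ.filter fun R'' : Sylow 5 G => R'' ≠ P ∧ f R' ≤ (R'' : Subgroup G) := by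
        ext R''
        simp only [A, Finset.mem_filter, Finset.mem_univ, true_and]
        constructor
        · rintro ⟨⟨h1, -⟩, h2⟩
          exact ⟨h1, h2 ▸ inf_le_right⟩
        · rintro ⟨h1, h2⟩
          have h3 := (card_meet P R'' hP h1 (le_inf inf_le_left h2 : f R' ≤ _) hb').2
          exact ⟨⟨h1, fun hb => hb' (h3.trans hb)⟩, h3.symm⟩
      rw [heq, ← Fintype.card_subtype, ← Nat.card_eq_fintype_card]
      omega
    have hAL : A.card = L.card * 5 := by
      rw [Finset.card_eq_sum_card_image f A, Finset.sum_congr rfl hfib, Finset.sum_const, smul_eq_mul]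
    have hL : L.card ≤ 6 := by
      haveI := Fintype.ofFinite (P : Subgroup G)
      have hL' : ∀ E : L, Nat.card E.1 = 5 ∧ E.1 ≤ (P : Subgroup G) := by
        rintro ⟨E, hE⟩
        obtain ⟨R', hR', rfl⟩ := Finset.mem_image.mp hE
        obtain ⟨hne', hb'⟩ := (Finset.mem_filter.mp hR').2
        exact ⟨(card_meet P R' hP hne' le_rfl hb').1, inf_le_left⟩
      have hle := Nat.card_le_card_of_injective
        (fun z : (Σ E : L, {x : E.1 // x ≠ 1}) => (⟨⟨z.2.1.1, (hL' z.1).2 z.2.1.2⟩,
          fun hh => z.2.2 (Subtype.ext (congrArg (fun y : (P : Subgroup G) => (y : G)) hh))⟩ :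
            {x : (P : Subgroup G) // x ≠ 1})) ?_
      · rw [Nat.card_sigma, Finset.sum_congr rfl (g := fun _ => 4) fun E _ => ?_, Finset.sum_const, Finset.card_univ,
          Fintype.card_coe, smul_eq_mul, Nat.card_eq_fintype_card, Fintype.card_subtype_compl,
          Fintype.card_subtype_eq, ← Nat.card_eq_fintype_card, hP P] at hle
        · omega
        · haveI := Fintype.ofFinite E.1
          rw [Nat.card_eq_fintype_card, Fintype.card_subtype_compl, Fintype.card_subtype_eq,
            ← Nat.card_eq_fintype_card, (hL' E).1]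
      · rintro ⟨E, x, hx⟩ ⟨E', x', hx'⟩ hh
        have hv : (x : G) = (x' : G) := congrArg (fun y : {x : (P : Subgroup G) // x ≠ 1} => ((y.1) : G)) hh
        have h1 := zpowers_eq_of_prime (p := 5) (hL' E).1 x.2 fun hh' => hx (Subtype.ext hh')
        have h2 := zpowers_eq_of_prime (p := 5) (hL' E').1 x'.2 fun hh' => hx' (Subtype.ext hh')
        obtain rfl : E = E' := Subtype.ext (h1.symm.trans (hv ▸ h2))
        obtain rfl : x = x' := Subtype.ext hv
        rfl
    -- the others fall into regular orbits of `P`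
    let Bset := {R' : Sylow 5 G // R' ≠ P ∧ f R' = ⊥}
    have hfix : ∀ y : (P : Subgroup G), (y : G) • P = P := fun y =>
      Sylow.smul_eq_iff_mem_normalizer.mpr (le_normalizer y.2)
    have hmem : ∀ (y : (P : Subgroup G)) (R' : Bset), (y : G) • R'.1 ≠ P ∧ f ((y : G) • R'.1) = ⊥ := by
      intro y R'
      refine ⟨fun hh => R'.2.1 (smul_left_cancel (y : G) (hh.trans (hfix y).symm)), ?_⟩
      rw [eq_bot_iff]
      intro x hx
      obtain ⟨hxP, hxR⟩ := hx
      rw [Sylow.coe_subgroup_smul] at hxR
      obtain ⟨r, hr, rfl⟩ := hxR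
      have hrP : r ∈ (P : Subgroup G) := (mem_normalizer_iff.mp (le_normalizer y.2) r).mpr hxP
      have hr1 : r ∈ f R'.1 := ⟨hrP, hr⟩
      rw [R'.2.2, mem_bot] at hr1
      rw [mem_bot, hr1]
      simp
    letI act : MulAction (P : Subgroup G) Bset :=
      { smul := fun y R' => ⟨(y : G) • R'.1, hmem y R'⟩
        one_smul := fun R' => Subtype.ext (one_smul G R'.1)
        mul_smul := fun y z R' => Subtype.ext (mul_smul (y : G) (z : G) R'.1) }
    have hstab : ∀ R' : Bset, stabilizer (P : Subgroup G) R' = ⊥ := by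
      intro R'
      rw [eq_bot_iff]
      intro y hy
      have h1 : (y : G) • R'.1 = R'.1 := congrArg Subtype.val hy
      have h2 : (y : G) ∈ f R'.1 := by
        refine ⟨y.2, ?_⟩
        have hpg : IsPGroup 5 (zpowers (y : G)) :=
          (P.2.to_subgroup ((zpowers (y : G)).subgroupOf (P : Subgroup G))).of_equiv
            (subgroupOfEquivOfLe (zpowers_le.mpr y.2))
        have h3 := hpg.inf_normalizer_sylow R'.1
        rw [inf_eq_left.mpr (show zpowers (y : G) ≤ normalizer (R'.1 : Set G) from
          zpowers_le.mpr (Sylow.smul_eq_iff_mem_normalizer.mp h1)), eq_comm, inf_eq_left] at h3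
        exact h3 (mem_zpowers _)
      rw [R'.2.2, mem_bot] at h2
      exact Subtype.ext h2
    have hB : Nat.card Bset % 25 = 0 := by
      rw [Nat.card_congr (selfEquivOrbitsQuotientProd hstab), Nat.card_prod, hP P]
      exact Nat.mul_mod_left _ _
    have hsplit : A.card + Nat.card Bset = 35 := by
      have h1 : (Finset.univ.filter fun R' : Sylow 5 G => R' ≠ P ∧ f R' = ⊥).card = Nat.card Bset := by
        rw [Nat.card_eq_fintype_card, Fintype.card_subtype]
      have h2 := Finset.card_filter_add_card_filter_not (s := Finset.univ.filter fun R' : Sylow 5 G => R' ≠ P)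
        (fun R' => f R' ≠ ⊥)
      simp only [Finset.filter_filter, not_not] at h2
      have h3 := card_others P
      rw [Nat.card_eq_fintype_card, Fintype.card_subtype, hn] at h3
      rw [← h1]
      have hAe : A = Finset.univ.filter fun R' : Sylow 5 G => R' ≠ P ∧ f R' ≠ ⊥ := rfl
      rw [hAe]
      omega
    rw [hA, hAL] at hlow
    omega
  · obtain ⟨P⟩ := (inferInstance : Nonempty (Sylow 5 G))
    have hmul := card_normalizer_sylow_mul P
    rw [h, hn] at hmul
    exact false_of_self hG (by rw [h]; norm_num) P (hP P)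
      (show Nat.card (normalizer ((P : Subgroup G) : Set G)) = _ by omega)

theorem false_5600 (hG : ¬ IsMulCommutative G) (h : Nat.card G = 5600) : False := by
  haveI : Fact (Nat.Prime 5) := ⟨by norm_num⟩
  have hc : Nat.card G = 5 ^ 2 * 224 := by rw [h]; norm_num
  have hP : ∀ Q : Sylow 5 G, Nat.card (Q : Subgroup G) = 5 ^ 2 := fun Q => card_sylow_eq Q hc (by norm_num)
  have hn := card_sylow_mem hG (p := 5) hc (by norm_num) two_ne_zero
  rw [show (Nat.divisors 224).filter (fun d => d % 5 = 1 ∧ d ≠ 1) = {16, 56} from by decide +kernel] at hn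
  simp only [Finset.mem_insert, Finset.mem_singleton] at hn
  have hbad : ¬ Nat.card (Sylow 5 G) ≡ 1 [MOD 5 ^ 2] := by
    rcases hn with hn | hn <;> rw [hn] <;> decide
  obtain ⟨P, R, D, hne, hD, hDc, hD1⟩ := exists_meet hP hbad
  have hDP : D ≤ (P : Subgroup G) := hD ▸ inf_le_left
  obtain ⟨t, ht, hH, hnH, hj⟩ := exists_localOrder hG h (m := 224) (by norm_num) (by norm_num) P R hne
    hDP (hD ▸ inf_le_right) hD1
  have hmul := card_normalizer_sylow_mul P
  rw [h] at hmul
  rcases hn with hn | hn
  · have hN : Nat.card (normalizer ((P : Subgroup G) : Set G)) = 350 := by rw [hn] at hmul; omega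
    rw [hN, show localOrders 5600 5 350 = [(400, 16, 25)] from by decide +kernel] at ht
    simp only [List.mem_cons, List.not_mem_nil, or_false] at ht
    subst ht
    have := (orbit_bound_num P hP hDP hDc (nH := 15) (k := 14) hnH hj hN).2
    omega
  · have hN : Nat.card (normalizer ((P : Subgroup G) : Set G)) = 100 := by rw [hn] at hmul; omega
    rw [hN, show localOrders 5600 5 100 = [(400, 16, 25)] from by decide +kernel] at ht
    simp only [List.mem_cons, List.not_mem_nil, or_false] at ht
    subst ht
    have := (orbit_bound_num P hP hDP hDc (nH := 15) (k := 4) hnH hj hN).2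
    omega

theorem false_5880 (hG : ¬ IsMulCommutative G) (h : Nat.card G = 5880) : False := by
  haveI : Fact (Nat.Prime 7) := ⟨by norm_num⟩
  have hc : Nat.card G = 7 ^ 2 * 120 := by rw [h]; norm_num
  have hP : ∀ Q : Sylow 7 G, Nat.card (Q : Subgroup G) = 7 ^ 2 := fun Q => card_sylow_eq Q hc (by norm_num)
  have hn := card_sylow_mem hG (p := 7) hc (by norm_num) two_ne_zero
  rw [show (Nat.divisors 120).filter (fun d => d % 7 = 1 ∧ d ≠ 1) = {8, 15, 120} from by decide +kernel] at hn
  simp only [Finset.mem_insert, Finset.mem_singleton] at hn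
  rcases hn with hn | hn | hn
  · have hfac := two_mul_card_dvd_factorial_card_sylow hG (p := 7) (by rw [h]; norm_num)
    rw [hn, h] at hfac; norm_num [Nat.factorial] at hfac
  · obtain ⟨P, R, D, hne, hD, hDc, hD1⟩ := exists_meet hP (by rw [hn]; decide)
    have hDP : D ≤ (P : Subgroup G) := hD ▸ inf_le_left
    have hmul := card_normalizer_sylow_mul P
    rw [h, hn] at hmul
    have hN : Nat.card (normalizer ((P : Subgroup G) : Set G)) = 392 := by omega
    obtain ⟨t, ht, hH, hnH, hj⟩ := exists_localOrder hG h (m := 120) (by norm_num) (by norm_num) P R hne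
      hDP (hD ▸ inf_le_right) hD1
    rw [hN, show localOrders 5880 7 392 = [(392, 8, 49)] from by decide +kernel] at ht
    simp only [List.mem_cons, List.not_mem_nil, or_false] at ht
    subst ht
    have := (orbit_bound_num P hP hDP hDc (nH := 7) (k := 8) hnH hj hN).2
    omega
  · obtain ⟨P⟩ := (inferInstance : Nonempty (Sylow 7 G))
    have hmul := card_normalizer_sylow_mul P
    rw [h, hn] at hmul
    exact false_of_self hG (by rw [h]; norm_num) P (hP P)
      (show Nat.card (normalizer ((P : Subgroup G) : Set G)) = _ by omega)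

end Cfsg.Agent.Lib.SmallGroups.Below6232
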