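/-
Surviving orders in `(3640, 6232]` handled through primes dividing the order exactly once.
-/
import Mathlib
import Cfsg.Agent.Lib.SmallGroups.Below6232.Tools
import Cfsg.Agent.Lib.LinGroup.ProjLine
import Cfsg.Agent.Lib.BrauerTuan.Simple
import Cfsg.Agent.S0999

set_option autoImplicit false
set_option linter.style.haveILetI false

namespace Cfsg.Agent.Lib.SmallGroups.Below6232

open Subgroup MulAction

universe u

variable {G : Type u} [Group G] [Finite G] [IsSimpleGroup G]

theorem false_3696 (hG : ¬ IsMulCommutative G) (h : Nat.card G = 3696) : False := by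
  haveI : Fact (Nat.Prime 11) := ⟨by norm_num⟩
  haveI : Fact (Nat.Prime 3) := ⟨Nat.prime_three⟩
  obtain ⟨P⟩ := (inferInstance : Nonempty (Sylow 11 G))
  obtain ⟨Q⟩ := (inferInstance : Nonempty (Sylow 3 G))
  obtain ⟨hP, t, ht, -, hC, -⟩ := exists_choice hG h (m := 336) (by norm_num) (by norm_num) P
  obtain ⟨hQ, s, hs, -, hCQ, -⟩ := exists_choice hG h (m := 1232) (by norm_num) (by norm_num) Q
  rw [show choices 3696 11 = [(56, 2, 33)] from by decide +kernel] at ht
  rw [show choices 3696 3 = [(22, 2, 84), (88, 2, 21), (154, 2, 12), (616, 2, 3)] from by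
    decide +kernel] at hs
  simp only [List.mem_cons, List.not_mem_nil, or_false] at ht hs
  subst ht
  have h1 := dvd_centralizer_symm P hP Q hQ (by rw [hC]; norm_num)
  rcases hs with rfl | rfl | rfl | rfl <;> rw [hCQ] at h1 <;> norm_num at h1

theorem false_3780 (hG : ¬ IsMulCommutative G) (h : Nat.card G = 3780) : False := by
  haveI : Fact (Nat.Prime 7) := ⟨by norm_num⟩
  haveI : Fact (Nat.Prime 5) := ⟨by norm_num⟩
  obtain ⟨P⟩ := (inferInstance : Nonempty (Sylow 7 G))
  obtain ⟨Q⟩ := (inferInstance : Nonempty (Sylow 5 G))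
  obtain ⟨hP, t, ht, -, hC, -⟩ := exists_choice hG h (m := 540) (by norm_num) (by norm_num) P
  obtain ⟨hQ, s, hs, -, hCQ, -⟩ := exists_choice hG h (m := 756) (by norm_num) (by norm_num) Q
  rw [show choices 3780 7 = [(36, 3, 35)] from by decide +kernel] at ht
  rw [show choices 3780 5 = [(126, 2, 15)] from by decide +kernel] at hs
  simp only [List.mem_cons, List.not_mem_nil, or_false] at ht hs
  subst ht hs
  have h1 := dvd_centralizer_symm P hP Q hQ (by rw [hC]; norm_num)
  rw [hCQ] at h1
  norm_num at h1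

theorem false_3960 (hG : ¬ IsMulCommutative G) (h : Nat.card G = 3960) : False := by
  haveI : Fact (Nat.Prime 11) := ⟨by norm_num⟩
  obtain ⟨P⟩ := (inferInstance : Nonempty (Sylow 11 G))
  obtain ⟨hP, t, ht, hn, hC, hN⟩ := exists_choice hG h (m := 360) (by norm_num) (by norm_num) P
  rw [show choices 3960 11 = [(45, 2, 44)] from by decide +kernel] at ht
  simp only [List.mem_cons, List.not_mem_nil, or_false] at ht
  subst ht
  simp only [] at hn hC hN
  set N := normalizer ((P : Subgroup G) : Set G) with hNdef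
  have hidx : N.index = 45 := by rw [← hn, P.card_eq_index_normalizer]; rfl
  obtain ⟨u, hu, huC, hle⟩ := exists_involution_central (j := 3) P hP (by norm_num)
    (by rw [← hNdef, hN]; norm_num) (by rw [hC]; norm_num)
  refine false_of_unique_fixed hG P hP hu huC ?_ fun f hf h4 hm => ?_
  · have hr := relIndex_mod_of_normalizer_le P hle
    have hmul := relIndex_mul_index hle
    rw [← hNdef, hidx] at hmul
    have hd : N.relIndex (centralizer ({u} : Set G)) ∣ 45 := Dvd.intro _ hmul
    have hlt : N.relIndex (centralizer ({u} : Set G)) ≠ 45 := by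
      intro he
      rw [he] at hmul
      refine centralizer_ne_top hG (x := u) (fun hh => ?_) (index_eq_one.mp (by omega))
      rw [hh, orderOf_one] at hu; norm_num at hu
    rw [← hNdef] at hr
    have h1 := Nat.le_of_dvd (by norm_num) hd
    have hone : N.relIndex (centralizer ({u} : Set G)) = 1 := by
      interval_cases N.relIndex (centralizer ({u} : Set G)) <;> omega
    exact le_antisymm (relIndex_eq_one.mp hone) hle
  · rw [← hNdef, hidx] at hf h4
    unfold Nat.ModEq at hm
    omega

theorem false_4400 (hG : ¬ IsMulCommutative G) (h : Nat.card G = 4400) : False := by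
  haveI : Fact (Nat.Prime 11) := ⟨by norm_num⟩
  haveI : Fact (Nat.Prime 5) := ⟨by norm_num⟩
  obtain ⟨P⟩ := (inferInstance : Nonempty (Sylow 11 G))
  obtain ⟨hP, t, ht, -, hC, hN⟩ := exists_choice hG h (m := 400) (by norm_num) (by norm_num) P
  rw [show choices 4400 11 = [(100, 2, 22)] from by decide +kernel] at ht
  simp only [List.mem_cons, List.not_mem_nil, or_false] at ht
  subst ht
  simp only [] at hC hN
  obtain ⟨Q⟩ := (inferInstance : Nonempty (Sylow 5 G))
  have hn5 := card_sylow_mem hG (p := 5) (k := 2) (m := 176) (by rw [h]; norm_num) (by norm_num) (by norm_num)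
  rw [show (Nat.divisors 176).filter (fun d => d % 5 = 1 ∧ d ≠ 1) = {11, 16, 176} from by
    decide +kernel] at hn5
  simp only [Finset.mem_insert, Finset.mem_singleton] at hn5
  have hQ : Nat.card (Q : Subgroup G) = 25 :=
    (card_sylow_eq Q (k := 2) (m := 176) (by rw [h]; norm_num) (by norm_num)).trans (by norm_num)
  set M := normalizer ((Q : Subgroup G) : Set G) with hM
  have hidx : M.index = Nat.card (Sylow 5 G) := by rw [Q.card_eq_index_normalizer]; rfl
  have hMt : M ≠ ⊤ := normalizer_sylow_ne_top hG (by rw [h]; norm_num) Q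
  have hMmul := card_normalizer_sylow_mul Q
  rw [h, ← hM] at hMmul
  rcases hn5 with hn5 | hn5 | hn5 <;> rw [hn5] at hidx hMmul
  · obtain ⟨-, h2⟩ := card_centralizer_dvd_of_index_lt P hP hMt (by rw [hidx]; norm_num)
    rw [hC, hidx] at h2
    norm_num at h2
  · have hM275 : Nat.card M = 275 := by omega
    obtain ⟨R, hR⟩ := exists_sylow_le (p := 11) (k := 1) (m := 400) (by rw [h]; norm_num)
      (by norm_num) (H := M) (by rw [hM275]; norm_num)
    obtain ⟨-, t, ht, -, -, hNR⟩ := exists_choice hG h (m := 400) (by norm_num) (by norm_num) R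
    rw [show choices 4400 11 = [(100, 2, 22)] from by decide +kernel] at ht
    simp only [List.mem_cons, List.not_mem_nil, or_false] at ht
    subst ht
    obtain ⟨hmod, hcard, -, h11, hle⟩ := sylow_count_of_le R hR
    have hR11 : Nat.card (R : Subgroup G) = 11 :=
      (card_sylow_eq R (k := 1) (m := 400) (by rw [h]; norm_num) (by norm_num)).trans (pow_one 11)
    rw [hM275] at hcard
    rw [hR11] at h11
    have hd : Nat.card (Sylow 11 M) ∣ 25 := by
      obtain ⟨c, hc⟩ := h11
      exact ⟨c, by rw [hc] at hcard; nlinarith⟩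
    have hle25 := Nat.le_of_dvd (by norm_num) hd
    have hone : Nat.card (Sylow 11 M) = 1 := by
      interval_cases Nat.card (Sylow 11 M) <;> omega
    have h1 := card_dvd_of_le (hle hone)
    rw [hM275, hNR] at h1
    norm_num at h1
  · have hM25 : Nat.card M = 25 := by omega
    haveI : IsMulCommutative (Q : Subgroup G) :=
      ⟨⟨(IsPGroup.isMulCommutative_of_card_eq_prime_sq (p := 5) (by rw [hQ]; norm_num)).is_comm.comm⟩⟩
    exact normalizer_ne_self_of_isMulCommutative hG (by rw [h]; norm_num) Q
      (Subgroup.eq_of_le_of_card_ge le_normalizer (by rw [← hM, hM25, hQ])).symm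

theorem false_4620 (hG : ¬ IsMulCommutative G) (h : Nat.card G = 4620) : False := by
  haveI : Fact (Nat.Prime 11) := ⟨by norm_num⟩
  haveI : Fact (Nat.Prime 7) := ⟨by norm_num⟩
  haveI : Fact (Nat.Prime 5) := ⟨by norm_num⟩
  obtain ⟨P⟩ := (inferInstance : Nonempty (Sylow 11 G))
  obtain ⟨Q⟩ := (inferInstance : Nonempty (Sylow 7 G))
  obtain ⟨R⟩ := (inferInstance : Nonempty (Sylow 5 G))
  obtain ⟨hP, t, ht, hnP, -, -⟩ := exists_choice hG h (m := 420) (by norm_num) (by norm_num) P
  obtain ⟨hQ, s, hs, hnQ, hCQ, -⟩ := exists_choice hG h (m := 660) (by norm_num) (by norm_num) Q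
  obtain ⟨hR, r, hr, hnR, hCR, -⟩ := exists_choice hG h (m := 924) (by norm_num) (by norm_num) R
  rw [show choices 4620 11 = [(210, 2, 11)] from by decide +kernel] at ht
  rw [show choices 4620 7 = [(330, 2, 7)] from by decide +kernel] at hs
  rw [show choices 4620 5 = [(66, 2, 35), (231, 2, 10), (231, 4, 5)] from by decide +kernel] at hr
  simp only [List.mem_cons, List.not_mem_nil, or_false] at ht hs hr
  subst ht hs
  have hc := counting (p := 11) (q := 7) (r := 5) (by norm_num) (by norm_num) (by norm_num) P hP Q hQ R hR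
  rw [hnP, hnQ, hnR, h] at hc
  rcases hr with rfl | rfl | rfl
  · have h1 := dvd_centralizer_symm R hR Q hQ (by rw [hCR]; norm_num)
    rw [hCQ] at h1
    norm_num at h1
  · norm_num at hc
  · norm_num at hc

/-- An element of order three centralizing a Sylow subgroup of order 13. -/
theorem false_4680 (hG : ¬ IsMulCommutative G) (h : Nat.card G = 4680) : False := by
  classical
  haveI : Fact (Nat.Prime 13) := ⟨by norm_num⟩
  haveI : Fact (Nat.Prime 3) := ⟨Nat.prime_three⟩
  obtain ⟨P⟩ := (inferInstance : Nonempty (Sylow 13 G))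
  obtain ⟨hP, t, ht, hn, hC, hN⟩ := exists_choice hG h (m := 360) (by norm_num) (by norm_num) P
  rw [show choices 4680 13 = [(40, 3, 39)] from by decide +kernel] at ht
  simp only [List.mem_cons, List.not_mem_nil, or_false] at ht
  subst ht
  simp only [] at hn hC hN
  set N := normalizer ((P : Subgroup G) : Set G) with hNdef
  have hidx : N.index = 40 := by rw [← hn, P.card_eq_index_normalizer]; rfl
  obtain ⟨⟨w, hwC⟩, hw⟩ := exists_prime_orderOf_dvd_card' (G := centralizer ((P : Subgroup G) : Set G)) 3
    (by rw [hC]; norm_num)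
  rw [Subgroup.orderOf_mk] at hw
  obtain ⟨S, hS⟩ := (IsPGroup.of_card (p := 3) (n := 1) (G := zpowers w)
    (by rw [Nat.card_zpowers, hw, pow_one])).exists_le_sylow
  have hwS : w ∈ (S : Subgroup G) := hS (mem_zpowers w)
  have hScard : Nat.card (S : Subgroup G) = 9 :=
    (card_sylow_eq S (k := 2) (m := 520) (by rw [h]; norm_num) (by norm_num)).trans (by norm_num)
  haveI : IsMulCommutative (S : Subgroup G) :=
    ⟨⟨(IsPGroup.isMulCommutative_of_card_eq_prime_sq (p := 3) (by rw [hScard]; norm_num)).is_comm.comm⟩⟩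
  set H := centralizer ({w} : Set G) with hH
  have hSH : (S : Subgroup G) ≤ H := fun y hy => mem_centralizer_singleton_iff.mpr
    (congrArg Subtype.val (IsMulCommutative.is_comm.comm (⟨y, hy⟩ : (S : Subgroup G)) ⟨w, hwS⟩))
  have hPH : (P : Subgroup G) ≤ H := fun y hy =>
    mem_centralizer_singleton_iff.mpr (mem_centralizer_iff.mp hwC y hy)
  obtain ⟨hmod, hcard, hmN, hmP, hle⟩ := sylow_count_of_le P hPH
  rw [hN] at hmN
  rw [hP] at hmP
  have hHt : H ≠ ⊤ := centralizer_ne_top hG (fun hh => by rw [hh, orderOf_one] at hw; norm_num at hw)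
  have hHidx : 13 ≤ H.index := by
    by_contra hlt
    push Not at hlt
    have h1 := (two_mul_card_dvd_factorial hG hHt).trans
      (Nat.factorial_dvd_factorial (show H.index ≤ 12 by omega))
    rw [h] at h1
    norm_num [Nat.factorial] at h1
  have hHmul := H.card_mul_index
  rw [h] at hHmul
  have h9 : 9 ∣ Nat.card H := hScard ▸ card_dvd_of_le hSH
  have h13 : 13 ∣ Nat.card H := hP ▸ card_dvd_of_le hPH
  have hH4680 : Nat.card H ∣ 4680 := h ▸ card_subgroup_dvd_card H
  have hHle : Nat.card H ≤ 360 := by nlinarith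
  obtain ⟨c, hc⟩ := Nat.Coprime.mul_dvd_of_dvd_of_dvd (show Nat.Coprime 9 13 by norm_num) h9 h13
  have hc1 : Nat.card H = 117 := by
    have hc3 : c ≤ 3 := by omega
    rw [hc] at hcard hH4680 hHle
    set n := Nat.card (Sylow 13 H) with hn13
    set m := Nat.card (normalizer ((P : Subgroup G) : Set G) ⊓ H : Subgroup G) with hm
    obtain ⟨m', hm'⟩ := hmP
    have hm39 : m' ∣ 9 := by
      rw [hm'] at hmN
      exact Nat.dvd_of_mul_dvd_mul_left (by norm_num : 0 < 13) hmN
    rw [hm'] at hcard
    have h9c : 9 * c = n * m' := by nlinarith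
    have hm9 := Nat.le_of_dvd (by norm_num) hm39
    interval_cases c
    · omega
    · omega
    · interval_cases m' <;> omega
    · norm_num at hH4680
  have hHN : H ≤ N := by
    refine hle ?_
    rw [hc1] at hcard
    obtain ⟨m', hm'⟩ := hmP
    rw [hm'] at hcard
    have h9c : 9 = Nat.card (Sylow 13 H) * m' := by nlinarith
    have hd : Nat.card (Sylow 13 H) ∣ 9 := Dvd.intro m' h9c.symm
    have := Nat.le_of_dvd (by norm_num) hd
    omega
  -- `w` fixes a single coset
  have hwN : w ∈ N := centralizer_le_normalizer' _ hwC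
  have hX : Nat.card (G ⧸ N) = 40 := by rw [← index_eq_card, hidx]
  have h3 := card_fixedBy_modEq (X := G ⧸ N) hw
  have h13f : Nat.card (fixedBy (G ⧸ N) w) ≡ 1 [MOD 13] :=
    Order5040.card_fixedBy_modEq_one P hP le_rfl hwC
  have hNt : N ≠ ⊤ := fun hh => by rw [hh, index_top] at hidx; norm_num at hidx
  have hfle : Nat.card (fixedBy (G ⧸ N) w) ≤ 40 :=
    hX ▸ Nat.card_le_card_of_injective Subtype.val Subtype.val_injective
  have hfne : Nat.card (fixedBy (G ⧸ N) w) ≠ 40 := by
    intro hc
    have hbij : Function.Bijective (Subtype.val : fixedBy (G ⧸ N) w → G ⧸ N) :=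
      (Nat.bijective_iff_injective_and_card _).mpr ⟨Subtype.val_injective, by rw [hc, hX]⟩
    have h1 : w = 1 := toPermHom_injective hNt (by
      rw [map_one]
      refine Equiv.ext fun b => ?_
      obtain ⟨c, rfl⟩ := hbij.2 b
      exact c.2)
    rw [h1, orderOf_one] at hw
    norm_num at hw
  have hf1 : Nat.card (fixedBy (G ⧸ N) w) = 1 := by
    rw [hX] at h3
    unfold Nat.ModEq at h3 h13f
    omega
  have hK : Nat.card {g : G // IsConj w g} = 40 := by
    have h1 := card_isConj_mul_card_centralizer w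
    rw [← hH, hc1, h] at h1
    omega
  have hone := card_fixedBy_mul_card_conj N w
  rw [hf1, hK, hidx] at hone
  have hone' : Nat.card {g : G // IsConj w g ∧ g ∈ N} = 1 := by omega
  haveI := (Nat.card_eq_one_iff_unique.mp hone').1
  have hw1 : w = 1 := eq_one_of_centralized_by_normalizer hG S hwS fun g hg => by
    have h1 : g * w * g⁻¹ ∈ N := hHN (hSH ((mem_normalizer_iff.mp hg w).mp hwS))
    have h2 := congrArg Subtype.val (Subsingleton.elim
      (⟨g * w * g⁻¹, isConj_iff.mpr ⟨g, rfl⟩, h1⟩ : {g : G // IsConj w g ∧ g ∈ N})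
      ⟨w, IsConj.refl w, hwN⟩)
    exact mul_inv_eq_iff_eq_mul.mp h2
  rw [hw1, orderOf_one] at hw
  norm_num at hw

theorem false_5148 (hG : ¬ IsMulCommutative G) (h : Nat.card G = 5148) : False := by
  classical
  haveI : Fact (Nat.Prime 11) := ⟨by norm_num⟩
  haveI : Fact (Nat.Prime 3) := ⟨Nat.prime_three⟩
  obtain ⟨P⟩ := (inferInstance : Nonempty (Sylow 11 G))
  obtain ⟨hP, t, ht, -, hC, hN⟩ := exists_choice hG h (m := 468) (by norm_num) (by norm_num) P
  rw [show choices 5148 11 = [(78, 2, 33)] from by decide +kernel] at ht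
  simp only [List.mem_cons, List.not_mem_nil, or_false] at ht
  subst ht
  simp only [] at hC hN
  obtain ⟨⟨w, hwC⟩, hw⟩ := exists_prime_orderOf_dvd_card' (G := centralizer ((P : Subgroup G) : Set G)) 3
    (by rw [hC]; norm_num)
  rw [Subgroup.orderOf_mk] at hw
  obtain ⟨S, hS⟩ := (IsPGroup.of_card (p := 3) (n := 1) (G := zpowers w)
    (by rw [Nat.card_zpowers, hw, pow_one])).exists_le_sylow
  have hwS : w ∈ (S : Subgroup G) := hS (mem_zpowers w)
  have hScard : Nat.card (S : Subgroup G) = 9 :=
    (card_sylow_eq S (k := 2) (m := 572) (by rw [h]; norm_num) (by norm_num)).trans (by norm_num)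
  haveI : IsMulCommutative (S : Subgroup G) :=
    ⟨⟨(IsPGroup.isMulCommutative_of_card_eq_prime_sq (p := 3) (by rw [hScard]; norm_num)).is_comm.comm⟩⟩
  set H := centralizer ({w} : Set G) with hH
  have hSH : (S : Subgroup G) ≤ H := fun y hy => mem_centralizer_singleton_iff.mpr
    (congrArg Subtype.val (IsMulCommutative.is_comm.comm (⟨y, hy⟩ : (S : Subgroup G)) ⟨w, hwS⟩))
  have hPH : (P : Subgroup G) ≤ H := fun y hy =>
    mem_centralizer_singleton_iff.mpr (mem_centralizer_iff.mp hwC y hy)
  obtain ⟨hmod, hcard, hmN, hmP, hle⟩ := sylow_count_of_le P hPH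
  rw [hN] at hmN
  rw [hP] at hmP
  have hHt : H ≠ ⊤ := centralizer_ne_top hG (fun hh => by rw [hh, orderOf_one] at hw; norm_num at hw)
  have hHidx : 13 ≤ H.index := by
    by_contra hlt
    push Not at hlt
    have h1 := (two_mul_card_dvd_factorial hG hHt).trans
      (Nat.factorial_dvd_factorial (show H.index ≤ 12 by omega))
    rw [h] at h1
    norm_num [Nat.factorial] at h1
  by_cases h13 : H.index = 13
  · obtain ⟨-, h2⟩ := card_centralizer_dvd_of_index_lt P hP hHt (by rw [h13]; norm_num)
    rw [hC, h13] at h2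
    norm_num [Nat.factorial] at h2
  have hHmul := H.card_mul_index
  rw [h] at hHmul
  have h9 : 9 ∣ Nat.card H := hScard ▸ card_dvd_of_le hSH
  have h11 : 11 ∣ Nat.card H := hP ▸ card_dvd_of_le hPH
  have hH5148 : Nat.card H ∣ 5148 := h ▸ card_subgroup_dvd_card H
  have hHle : Nat.card H ≤ 367 := by nlinarith [show 14 ≤ H.index by omega]
  obtain ⟨c, hc⟩ := Nat.Coprime.mul_dvd_of_dvd_of_dvd (show Nat.Coprime 9 11 by norm_num) h9 h11
  obtain ⟨m', hm'⟩ := hmP
  have hm6 : m' ∣ 6 := by
    rw [hm'] at hmN
    exact Nat.dvd_of_mul_dvd_mul_left (by norm_num : 0 < 11) hmN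
  rw [hm'] at hcard
  set n := Nat.card (Sylow 11 H) with hn
  have h9c : 9 * c = n * m' := by rw [hc] at hcard; nlinarith
  have hone : n = 1 := by
    have h6 := Nat.le_of_dvd (by norm_num) hm6
    have hc3 : c ≤ 3 := by omega
    rw [hc] at hH5148
    interval_cases c <;> interval_cases m' <;> omega
  have h1 := card_dvd_of_le (hle hone)
  rw [hN] at h1
  exact absurd (h9.trans h1) (by norm_num)

/-- The Sylow 2-subgroup cannot be Klein and embed in a cyclic automorphism group. -/
theorem two_dvd_centralizer (hG : ¬ IsMulCommutative G) (h8 : ¬ 8 ∣ Nat.card G) {p : ℕ}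
    [hp : Fact p.Prime] (P : Sylow p G) (hP : Nat.card (P : Subgroup G) = p)
    (h4 : 4 ∣ Nat.card (normalizer ((P : Subgroup G) : Set G))) :
    2 ∣ Nat.card (centralizer ((P : Subgroup G) : Set G)) := by
  classical
  haveI : Fact (Nat.Prime 2) := ⟨Nat.prime_two⟩
  set N := normalizer ((P : Subgroup G) : Set G) with hNdef
  obtain ⟨K, hK⟩ := Sylow.exists_subgroup_card_pow_prime 2 (n := 2) (show 2 ^ 2 ∣ Nat.card N from h4)
  set T' := K.map N.subtype with hT'
  have hT'c : Nat.card T' = 2 ^ 2 := by rw [hT', card_map_of_injective N.subtype_injective, hK]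
  have h4G : 4 ∣ Nat.card G := h4.trans (card_subgroup_dvd_card N)
  have hfac : (Nat.card G).factorization 2 = 2 := by
    have h1 := (Nat.prime_two.pow_dvd_iff_le_factorization (Nat.card_pos (α := G)).ne').mp
      (show 2 ^ 2 ∣ Nat.card G from h4G)
    by_contra hne
    exact h8 ((Nat.prime_two.pow_dvd_iff_le_factorization (Nat.card_pos (α := G)).ne').mpr
      (show 3 ≤ (Nat.card G).factorization 2 by omega))
  let T : Sylow 2 G := Sylow.ofCard T' (by rw [hT'c, hfac])
  obtain ⟨hKl, -⟩ := Cfsg.Agent.S0992.result hG (even_iff_two_dvd.mpr (Nat.dvd_trans (by norm_num) h4G))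
    h8 T
  haveI := hKl
  have hsq : ∀ a ∈ T', a * a = 1 := fun a ha =>
    congrArg Subtype.val (IsKleinFour.mul_self (⟨a, ha⟩ : (T : Subgroup G)))
  by_contra hodd
  haveI hc : IsCyclic (P : Subgroup G) := isCyclic_of_prime_card hP
  obtain ⟨E⟩ : Nonempty (MulAut (P : Subgroup G) ≃* (ZMod p)ˣ) := by
    have e1 := IsCyclic.mulAutMulEquiv (P : Subgroup G)
    rw [hP] at e1
    exact ⟨e1⟩
  haveI : IsCyclic (MulAut (P : Subgroup G)) := isCyclic_of_surjective E.symm E.symm.surjective
  haveI := Fintype.ofFinite (MulAut (P : Subgroup G))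
  haveI := Fintype.ofFinite K
  let ψ : K →* MulAut (P : Subgroup G) := (P : Subgroup G).normalizerMonoidHom.comp K.subtype
  have hψ : Function.Injective ψ := (injective_iff_map_eq_one ψ).mpr fun k hk => by
    have h1 : (k : N) ∈ (P : Subgroup G).normalizerMonoidHom.ker := hk
    rw [normalizerMonoidHom_ker, mem_subgroupOf] at h1
    by_contra hne
    refine hodd ?_
    have h2 : orderOf ((k : N) : G) = 2 := by
      refine orderOf_eq_prime (by rw [sq]; exact hsq _ ⟨k, k.2, rfl⟩) fun hh => hne ?_
      exact Subtype.ext (Subtype.ext hh)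
    exact h2 ▸ Subgroup.orderOf_dvd_natCard _ h1
  have hle := IsCyclic.card_pow_eq_one_le (α := MulAut (P : Subgroup G)) (n := 2) two_pos
  have h5 : (Finset.univ.image ψ) ⊆ Finset.univ.filter fun a => a ^ 2 = 1 := by
    intro a ha
    obtain ⟨k, -, rfl⟩ := Finset.mem_image.mp ha
    refine Finset.mem_filter.mpr ⟨Finset.mem_univ _, ?_⟩
    rw [← map_pow, show k ^ 2 = 1 from Subtype.ext (Subtype.ext (by
      show ((k : N) : G) ^ 2 = 1
      rw [sq]; exact hsq _ ⟨k, k.2, rfl⟩)), map_one]
  have h6 := (Finset.card_le_card h5).trans hle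
  rw [Finset.card_image_of_injective _ hψ, Finset.card_univ, ← Nat.card_eq_fintype_card, hK] at h6
  norm_num at h6

theorem false_5460 (hG : ¬ IsMulCommutative G) (h : Nat.card G = 5460) : False := by
  classical
  haveI : Fact (Nat.Prime 13) := ⟨by norm_num⟩
  haveI : Fact (Nat.Prime 7) := ⟨by norm_num⟩
  haveI : Fact (Nat.Prime 5) := ⟨by norm_num⟩
  haveI : Fact (Nat.Prime 3) := ⟨Nat.prime_three⟩
  haveI : Fact (Nat.Prime 2) := ⟨Nat.prime_two⟩
  obtain ⟨A⟩ := (inferInstance : Nonempty (Sylow 13 G))
  obtain ⟨B⟩ := (inferInstance : Nonempty (Sylow 7 G))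
  obtain ⟨C⟩ := (inferInstance : Nonempty (Sylow 5 G))
  obtain ⟨D⟩ := (inferInstance : Nonempty (Sylow 3 G))
  obtain ⟨hA, a, ha, -, hCA, hNA⟩ := exists_choice hG h (m := 420) (by norm_num) (by norm_num) A
  obtain ⟨hB, b, hb, hnB, hCB, -⟩ := exists_choice hG h (m := 780) (by norm_num) (by norm_num) B
  obtain ⟨hC, c, hc, hnC, hCC, -⟩ := exists_choice hG h (m := 1092) (by norm_num) (by norm_num) C
  obtain ⟨hD, d, hd, hnD, hCD, -⟩ := exists_choice hG h (m := 1820) (by norm_num) (by norm_num) D
  rw [show choices 5460 13 = [(105, 2, 26), (105, 4, 13)] from by decide +kernel] at ha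
  rw [show choices 5460 7 = [(78, 2, 35), (260, 3, 7)] from by decide +kernel] at hb
  rw [show choices 5460 5 = [(91, 2, 30), (91, 4, 15), (546, 2, 5)] from by decide +kernel] at hc
  rw [show choices 5460 3 = [(70, 2, 39), (91, 2, 30), (130, 2, 21), (910, 2, 3)] from by
    decide +kernel] at hd
  simp only [List.mem_cons, List.not_mem_nil, or_false] at ha hb hc hd
  have hb' : b = (260, 3, 7) := by
    rcases hb with rfl | rfl
    · exfalso
      have h1 := dvd_centralizer_symm B hB C hC (by rw [hCB]; norm_num)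
      rcases hc with rfl | rfl | rfl <;> rw [hCC] at h1 <;> norm_num at h1
    · rfl
  subst hb'
  simp only [] at hnB hCB
  rcases hd with rfl | rfl | rfl | rfl
  · have h1 := dvd_centralizer_symm D hD A hA (by rw [hCD]; norm_num)
    rcases ha with rfl | rfl <;> rw [hCA] at h1 <;> norm_num at h1
  · -- all involutions are conjugate, so one of them centralizes elements of order 3 and 13
    have h8 : ¬ 8 ∣ Nat.card G := by rw [h]; norm_num
    have h2C : 2 ∣ Nat.card (centralizer ((A : Subgroup G) : Set G)) := by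
      refine two_dvd_centralizer hG h8 A hA ?_
      rw [hNA]
      rcases ha with rfl | rfl <;> norm_num
    obtain ⟨⟨u, huA⟩, hu⟩ := exists_prime_orderOf_dvd_card' 2 h2C
    rw [Subgroup.orderOf_mk] at hu
    obtain ⟨⟨v, hvD⟩, hv⟩ := exists_prime_orderOf_dvd_card' (G := centralizer ((D : Subgroup G) : Set G)) 2
      (by rw [hCD]; norm_num)
    rw [Subgroup.orderOf_mk] at hv
    obtain ⟨g, hg⟩ := isConj_iff.mp (isConj_of_not_eight hG (by rw [h]; decide) h8 hv hu)
    set H := centralizer ({u} : Set G) with hH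
    have h13 : 13 ∣ Nat.card H := by
      have h1 := card_dvd_of_le (show (A : Subgroup G) ≤ H from fun y hy =>
        mem_centralizer_singleton_iff.mpr (mem_centralizer_iff.mp huA y hy))
      rwa [hA] at h1
    have h3 : 3 ∣ Nat.card H := by
      have h1 := card_dvd_of_le (show (D : Subgroup G) ≤ centralizer ({v} : Set G) from fun y hy =>
        mem_centralizer_singleton_iff.mpr (mem_centralizer_iff.mp hvD y hy))
      rw [hD, ← Involution.card_centralizer_conj g v, hg] at h1
      exact h1
    have h7 : ¬ 7 ∣ Nat.card H := fun h7 => by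
      obtain ⟨⟨y, hy⟩, hyo⟩ := exists_prime_orderOf_dvd_card' 7 h7
      rw [Subgroup.orderOf_mk] at hyo
      have h1 : orderOf u ∣ Nat.card (centralizer ({y} : Set G)) :=
        Subgroup.orderOf_dvd_natCard _ (mem_centralizer_singleton_iff.mpr
          (mem_centralizer_singleton_iff.mp hy).symm)
      rw [hu, card_centralizer_of_orderOf B hB hyo, hCB] at h1
      norm_num at h1
    have hAH : (A : Subgroup G) ≤ H := fun y hy =>
      mem_centralizer_singleton_iff.mpr (mem_centralizer_iff.mp huA y hy)
    obtain ⟨hmod, hcard, hmN, hmP, hle⟩ := sylow_count_of_le A hAH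
    set n := Nat.card (Sylow 13 H) with hn
    have hn420 : n ∣ 420 := by
      obtain ⟨m', hm'⟩ := hmP
      rw [hA] at hm'
      have h1 : n * (13 * m') ∣ 5460 := by
        rw [← hm', ← hcard]; exact h ▸ card_subgroup_dvd_card H
      rw [show n * (13 * m') = 13 * (n * m') by ring] at h1
      exact (dvd_mul_right n m').trans
        (Nat.dvd_of_mul_dvd_mul_left (show 0 < 13 by norm_num) (show 13 * (n * m') ∣ 13 * 420 from h1))
    have hn7 : ¬ 7 ∣ n := fun hh => h7 (hh.trans (Dvd.intro _ hcard.symm))
    have hone : n = 1 := by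
      have h1 : n ∈ Nat.divisors 420 := Nat.mem_divisors.mpr ⟨hn420, by norm_num⟩
      have h2 : n ∈ (Nat.divisors 420).filter (fun d => d % 13 = 1) := Finset.mem_filter.mpr ⟨h1, hmod⟩
      rw [show (Nat.divisors 420).filter (fun d => d % 13 = 1) = {1, 14, 105} from by decide +kernel] at h2
      simp only [Finset.mem_insert, Finset.mem_singleton] at h2
      rcases h2 with h2 | h2 | h2
      · exact h2
      · exact absurd ⟨2, by omega⟩ hn7
      · exact absurd ⟨15, by omega⟩ hn7
    have h1 := h3.trans (card_dvd_of_le (hle hone))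
    rw [hNA] at h1
    rcases ha with rfl | rfl <;> norm_num at h1
  · have h1 := dvd_centralizer_symm D hD B hB (by rw [hCD]; norm_num)
    rw [hCB] at h1
    norm_num at h1
  · rcases hc with rfl | rfl | rfl
    · have h1 := dvd_centralizer_symm C hC D hD (by rw [hCC]; norm_num)
      rw [hCD] at h1; norm_num at h1
    · have h1 := dvd_centralizer_symm C hC D hD (by rw [hCC]; norm_num)
      rw [hCD] at h1; norm_num at h1
    · have hc := counting (p := 7) (q := 5) (r := 3) (by norm_num) (by norm_num) (by norm_num) B hB C hC D hD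
      rw [hnB, hnC, hnD, h] at hc
      norm_num at hc

theorem false_5940 (hG : ¬ IsMulCommutative G) (h : Nat.card G = 5940) : False := by
  classical
  haveI : Fact (Nat.Prime 11) := ⟨by norm_num⟩
  haveI : Fact (Nat.Prime 2) := ⟨Nat.prime_two⟩
  obtain ⟨P⟩ := (inferInstance : Nonempty (Sylow 11 G))
  obtain ⟨hP, t, ht, hn, hC, hN⟩ := exists_choice hG h (m := 540) (by norm_num) (by norm_num) P
  rw [show choices 5940 11 = [(45, 2, 66)] from by decide +kernel] at ht
  simp only [List.mem_cons, List.not_mem_nil, or_false] at ht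
  subst ht
  simp only [] at hn hC hN
  set N := normalizer ((P : Subgroup G) : Set G) with hNdef
  set C := centralizer ((P : Subgroup G) : Set G) with hCdef
  have hidx : N.index = 45 := by rw [← hn, P.card_eq_index_normalizer]; rfl
  obtain ⟨⟨u, huC⟩, hu⟩ := exists_prime_orderOf_dvd_card' (G := C) 2 (by rw [hC]; norm_num)
  rw [Subgroup.orderOf_mk] at hu
  have huN : u ∈ N := centralizer_le_normalizer' _ huC
  obtain ⟨T₀, hT₀⟩ := (IsPGroup.of_card (p := 2) (n := 1) (G := zpowers (⟨u, huN⟩ : N))
    (by rw [Nat.card_zpowers, pow_one, Subgroup.orderOf_mk, hu])).exists_le_sylow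
  set T' := (T₀ : Subgroup N).map N.subtype with hT'
  have hT'c : Nat.card T' = 2 ^ 2 := by
    rw [hT', card_map_of_injective N.subtype_injective,
      card_sylow_eq T₀ (k := 2) (m := 33) (by rw [hN]; norm_num) (by norm_num)]
  let T : Sylow 2 G := Sylow.ofCard T' (by
    rw [hT'c, h, show (5940 : ℕ) = 2 ^ 2 * 1485 by norm_num,
      Nat.factorization_mul (by norm_num) (by norm_num), Nat.prime_two.factorization_pow]
    simp [Nat.factorization_eq_zero_of_not_dvd (n := 1485) (p := 2) (by norm_num)])
  obtain ⟨hKl, hrel⟩ := Cfsg.Agent.S0992.result hG (by rw [h]; decide) (by rw [h]; norm_num) T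
  haveI := hKl
  have hsq : ∀ a ∈ T', a * a = 1 := fun a ha =>
    congrArg Subtype.val (IsKleinFour.mul_self (⟨a, ha⟩ : (T : Subgroup G)))
  have huT : u ∈ T' := ⟨⟨u, huN⟩, hT₀ (mem_zpowers _), rfl⟩
  have hTN : T' ≤ N := map_subtype_le _
  -- the normalizer of `T` lies in `N`
  have hMN : normalizer (T' : Set G) ≤ N := fun g hg => by
    refine eq_one_coset hG P hP hu huC (fun f hf h4 hm => ?_) ?_
    · rw [← hNdef, hidx] at hf h4
      unfold Nat.ModEq at hm
      omega
    · refine hTN ?_
      have h1 := (mem_normalizer_iff.mp (inv_mem hg) u).mp huT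
      rwa [inv_inv] at h1
  -- `u` is the only nontrivial element of `T ∩ C`
  have hCT : ∀ a ∈ T', a ∈ C → a = 1 ∨ a = u := by
    intro a ha haC
    by_contra hh
    push Not at hh
    have hu1 : u ≠ 1 := fun hh' => by rw [hh', orderOf_one] at hu; norm_num at hu
    have hd : T' ≤ C := by
      haveI := Fintype.ofFinite T'
      have huniv : ({1, ⟨u, huT⟩, ⟨a, ha⟩, ⟨u * a, T'.mul_mem huT ha⟩} : Finset T') = Finset.univ := by
        refine Finset.eq_univ_of_card _ ?_
        rw [← Nat.card_eq_fintype_card, hT'c, Finset.card_insert_of_notMem,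
          Finset.card_insert_of_notMem, Finset.card_pair]
        · norm_num
        · intro he
          have h6 : a = u * a := congrArg Subtype.val he
          exact hu1 (mul_eq_right.mp h6.symm)
        · simp only [Finset.mem_insert, Finset.mem_singleton, Subtype.mk.injEq, not_or]
          exact ⟨fun he => hh.2 he.symm, fun he => hh.1 (mul_eq_left.mp he.symm)⟩
        · simp only [Finset.mem_insert, Finset.mem_singleton, Subtype.ext_iff, Subgroup.coe_one, not_or]
          refine ⟨fun he => hu1 he.symm, fun he => hh.1 he.symm, fun he => hh.2 ?_⟩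
          calc a = u * (u * a) := by rw [← mul_assoc, hsq u huT, one_mul]
            _ = u := by rw [← he, mul_one]
      intro b hb
      have hb' : (⟨b, hb⟩ : T') ∈ ({1, ⟨u, huT⟩, ⟨a, ha⟩, ⟨u * a, T'.mul_mem huT ha⟩} : Finset T') :=
        huniv ▸ Finset.mem_univ _
      simp only [Finset.mem_insert, Finset.mem_singleton, Subtype.ext_iff, Subgroup.coe_one] at hb'
      rcases hb' with rfl | rfl | rfl | rfl
      exacts [C.one_mem, huC, haC, C.mul_mem huC haC]
    have h1 := card_dvd_of_le hd
    rw [hT'c, hC] at h1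
    norm_num at h1
  -- so the normalizer of `T` centralizes it
  have hcent : normalizer (T' : Set G) ≤ centralizer (T' : Set G) := by
    intro g hg
    have hgN : g ∈ N := hMN hg
    have hgu : g * u * g⁻¹ = u := by
      have h1 : g * u * g⁻¹ ∈ C := by
        refine mem_centralizer_iff.mpr fun y hy => ?_
        have hy' : g⁻¹ * y * g ∈ (P : Subgroup G) := by
          simpa using (mem_normalizer_iff.mp (inv_mem hgN) y).mp hy
        have h2 := mem_centralizer_iff.mp huC _ hy'
        calc y * (g * u * g⁻¹) = g * (g⁻¹ * y * g * u) * g⁻¹ := by group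
          _ = g * (u * (g⁻¹ * y * g)) * g⁻¹ := by rw [h2]
          _ = g * u * g⁻¹ * y := by group
      rcases hCT _ ((mem_normalizer_iff.mp hg u).mp huT) h1 with h2 | h2
      · rw [conj_eq_one_iff] at h2
        rw [h2, orderOf_one] at hu
        norm_num at hu
      · exact h2
    set M := normalizer (T' : Set G)
    set Z := centralizer (T' : Set G)
    haveI hCn : (Z.subgroupOf M).Normal := by
      show ((centralizer (T' : Set G)).subgroupOf (normalizer (T' : Set G))).Normal
      rw [← normalizerMonoidHom_ker]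
      infer_instance
    have hg3 : g ^ 3 ∈ Z := by
      have h1 := (Z.subgroupOf M).pow_index_mem (⟨g, hg⟩ : M)
      rw [show (Z.subgroupOf M).index = 3 from hrel] at h1
      exact mem_subgroupOf.mp h1
    have hg2 : g * g ∈ Z := by
      refine mem_centralizer_iff.mpr fun b hb => ?_
      have hb' : g * b * g⁻¹ ∈ T' := (mem_normalizer_iff.mp hg b).mp hb
      -- `g * b * g⁻¹ * b` is fixed, hence lies in `⟨u⟩`
      have key : g * (g * b * g⁻¹) * g⁻¹ = b := by
        by_cases hbC : b ∈ C
        · rcases hCT b hb hbC with rfl | rfl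
          · group
          · rw [hgu, hgu]
        · have hgb : g * b * g⁻¹ ∉ C := fun hh => by
            rcases hCT _ hb' hh with h2 | h2
            · exact hbC (by rw [conj_eq_one_iff.mp h2]; exact C.one_mem)
            · exact hbC (by
                rw [mul_left_cancel (mul_right_cancel (h2.trans hgu.symm))]; exact huC)
          have hprod : b * (g * b * g⁻¹) ∈ C := by
            have hfour : Nat.card T' = 4 := by rw [hT'c]; norm_num
            by_contra hne
            haveI := Fintype.ofFinite T'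
            have hu1 : u ≠ 1 := fun hh' => by rw [hh', orderOf_one] at hu; norm_num at hu
            have h5 := Finset.card_le_univ ({1, ⟨u, huT⟩, ⟨b, hb⟩, ⟨_, hb'⟩,
              ⟨b * (g * b * g⁻¹), T'.mul_mem hb hb'⟩} : Finset T')
            rw [Finset.card_insert_of_notMem, Finset.card_insert_of_notMem, Finset.card_insert_of_notMem,
              Finset.card_pair, ← Nat.card_eq_fintype_card, hfour] at h5
            · omega
            · exact fun he => hbC (by
                have h6 : g * b * g⁻¹ = b * (g * b * g⁻¹) := congrArg Subtype.val he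
                rw [mul_eq_right.mp h6.symm]; exact C.one_mem)
            · simp only [Finset.mem_insert, Finset.mem_singleton, Subtype.mk.injEq, not_or]
              refine ⟨fun he => hne ?_, fun he => hgb ?_⟩
              · rw [← he, hsq b hb]; exact C.one_mem
              · rw [mul_eq_left.mp he.symm]; exact C.one_mem
            · simp only [Finset.mem_insert, Finset.mem_singleton, Subtype.mk.injEq, not_or]
              exact ⟨fun he => hbC (he ▸ huC), fun he => hgb (he ▸ huC), fun he => hne (he ▸ huC)⟩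
            · simp only [Finset.mem_insert, Finset.mem_singleton, Subtype.ext_iff, Subgroup.coe_one,
                not_or]
              exact ⟨fun he => hu1 he.symm, fun he => hbC (he ▸ C.one_mem),
                fun he => hgb (he ▸ C.one_mem), fun he => hne (he ▸ C.one_mem)⟩
          rcases hCT _ (T'.mul_mem hb hb') hprod with h2 | h2
          · have h3 : g * b * g⁻¹ = b := by
              rw [← inv_eq_of_mul_eq_one_right h2, inv_eq_of_mul_eq_one_right (hsq b hb)]
            rw [h3, h3]
          · have h3 : g * b * g⁻¹ = b * u := by rw [← h2, ← mul_assoc, hsq b hb, one_mul]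
            calc g * (g * b * g⁻¹) * g⁻¹ = g * (b * u) * g⁻¹ := by rw [h3]
              _ = (g * b * g⁻¹) * (g * u * g⁻¹) := by group
              _ = b := by rw [h3, hgu, mul_assoc, hsq u huT, mul_one]
      calc b * (g * g) = g * (g * b * g⁻¹) * g⁻¹ * (g * g) := by rw [key]
        _ = g * g * b := by group
    have h1 : g ^ 3 * (g * g)⁻¹ ∈ Z := Z.mul_mem hg3 (Z.inv_mem hg2)
    rwa [show g ^ 3 * (g * g)⁻¹ = g by group] at h1
  exact not_normalizer_le_centralizer hG (by rw [h]; norm_num) T hcent

theorem false_5200 (hG : ¬ IsMulCommutative G) (h : Nat.card G = 5200) : False := by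
  haveI : Fact (Nat.Prime 13) := ⟨by norm_num⟩
  obtain ⟨P⟩ := (inferInstance : Nonempty (Sylow 13 G))
  obtain ⟨-, t, ht, -⟩ := exists_choice hG h (m := 400) (by norm_num) (by norm_num) P
  rw [show choices 5200 13 = [] from by decide +kernel] at ht
  exact List.not_mem_nil ht

theorem false_6160 (hG : ¬ IsMulCommutative G) (h : Nat.card G = 6160) : False := by
  haveI : Fact (Nat.Prime 7) := ⟨by norm_num⟩
  obtain ⟨P⟩ := (inferInstance : Nonempty (Sylow 7 G))
  obtain ⟨-, t, ht, -⟩ := exists_choice hG h (m := 880) (by norm_num) (by norm_num) P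
  rw [show choices 6160 7 = [] from by decide +kernel] at ht
  exact List.not_mem_nil ht

/-- The orders excluded by the Brauer–Reynolds bound `p ^ 3 > |G|`. -/
theorem false_of_cube (hG : ¬ IsMulCommutative G) {p : ℕ} (hp : p.Prime) (hd : p ∣ Nat.card G)
    (hlt : Nat.card G < p ^ 3)
    (h1 : Nat.gcd 2 (p - 1) * ((p - 1) * Nat.card G) ≠ (p ^ 2 - 1) * (p ^ 2 - p))
    (h2 : Nat.gcd 2 (p - 2) * ((p - 2) * Nat.card G) ≠ ((p - 1) ^ 2 - 1) * ((p - 1) ^ 2 - (p - 1))) :
    False := by
  rcases Cfsg.Agent.S0999.result (fun hc => hG hc.isMulCommutative) p hp hd hlt with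
    ⟨F, iF, iFt, hF, -, ⟨e⟩⟩ | ⟨m, F, iF, iFt, hF, hpm, -, ⟨e⟩⟩
  · have h := @LinGroup.card_PSL_two_mul F iF iFt
    rw [← Nat.card_congr e.toEquiv, hF] at h
    exact h1 h
  · have h := @LinGroup.card_PSL_two_mul F iF iFt
    rw [← Nat.card_congr e.toEquiv, hF] at h
    refine h2 ?_
    rw [show p - 1 = 2 ^ m by omega, show p - 2 = 2 ^ m - 1 by omega]
    exact h

/-- The orders excluded by the theorem on `p * q ^ b * g₀` with `g₀ < p - 1`. -/
theorem false_of_simple_order (hG : ¬ IsMulCommutative G) (p q b g₀ : ℕ) (hp : p.Prime) (hq : q.Prime)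
    (hqp : q ≠ p) (hcard : Nat.card G = p * q ^ b * g₀) (hg : g₀ < p - 1)
    (h1 : 2 * Nat.card G ≠ (p + 1) * (p * (p - 1)))
    (h2 : Nat.card G ≠ p * ((p - 1) * (p - 2))) : False := by
  rcases BrauerTuan.simple_order hG hp hq hqp hcard hg with
    ⟨F, iF, iFt, -, -, h, -⟩ | ⟨m, F, iF, iFt, -, -, -, h, -⟩
  · exact h1 h
  · exact h2 h

end Cfsg.Agent.Lib.SmallGroups.Below6232
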